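import Mathlib
import Cfsg.Agent.EqLemmas

/-
Block matrices `(A ⊕ e)` in dimension 3.
Main results (namespace `Cfsg.Agent.Fusion3`): `blk`, `IsBlk`, `blk_mul`, `det_blk`, `Data`
(the hypotheses on a matrix group used for the fusion computation), elements of the group.
-/

set_option autoImplicit false

namespace Cfsg.Agent.Fusion3

open Matrix

variable {F : Type*} [Field F]

/-- The block matrix `[[a,b],[c,d]] ⊕ e`. -/
def blk (a b c d e : F) : Matrix (Fin 3) (Fin 3) F := !![a, b, 0; c, d, 0; 0, 0, e]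

/-- Block shape. -/
def IsBlk (M : Matrix (Fin 3) (Fin 3) F) : Prop := M 0 2 = 0 ∧ M 1 2 = 0 ∧ M 2 0 = 0 ∧ M 2 1 = 0

theorem isBlk_blk (a b c d e : F) : IsBlk (blk a b c d e) := by simp [IsBlk, blk]

theorem IsBlk.eq_blk {M : Matrix (Fin 3) (Fin 3) F} (h : IsBlk M) :
    M = blk (M 0 0) (M 0 1) (M 1 0) (M 1 1) (M 2 2) := by
  obtain ⟨h1, h2, h3, h4⟩ := h
  ext i j
  fin_cases i <;> fin_cases j <;> simp [blk, h1, h2, h3, h4]

theorem IsBlk.exists_eq {M : Matrix (Fin 3) (Fin 3) F} (h : IsBlk M) :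
    ∃ a b c d e, M = blk a b c d e := ⟨_, _, _, _, _, h.eq_blk⟩

theorem blk_mul (a b c d e a' b' c' d' e' : F) :
    blk a b c d e * blk a' b' c' d' e' =
      blk (a * a' + b * c') (a * b' + b * d') (c * a' + d * c') (c * b' + d * d') (e * e') := by
  ext i j
  fin_cases i <;> fin_cases j <;> simp [blk, Matrix.mul_apply, Fin.sum_univ_three]

theorem det_blk (a b c d e : F) : (blk a b c d e).det = (a * d - b * c) * e := by
  rw [Matrix.det_fin_three]; simp [blk]; ring

theorem blk_one : (blk 1 0 0 1 1 : Matrix (Fin 3) (Fin 3) F) = 1 := by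
  ext i j
  fin_cases i <;> fin_cases j <;> simp [blk]

theorem blk_inj {a b c d e a' b' c' d' e' : F} :
    blk a b c d e = blk a' b' c' d' e' ↔ a = a' ∧ b = b' ∧ c = c' ∧ d = d' ∧ e = e' := by
  refine ⟨fun h => ⟨?_, ?_, ?_, ?_, ?_⟩, fun ⟨h1, h2, h3, h4, h5⟩ => by rw [h1, h2, h3, h4, h5]⟩
  · simpa [blk] using congrFun (congrFun h 0) 0
  · simpa [blk] using congrFun (congrFun h 0) 1
  · simpa [blk] using congrFun (congrFun h 1) 0
  · simpa [blk] using congrFun (congrFun h 1) 1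
  · simpa [blk] using congrFun (congrFun h 2) 2

theorem blk_eq_one {a b c d e : F} :
    blk a b c d e = 1 ↔ a = 1 ∧ b = 0 ∧ c = 0 ∧ d = 1 ∧ e = 1 := by
  rw [← blk_one, blk_inj]

theorem IsBlk.mul {M M' : Matrix (Fin 3) (Fin 3) F} (h : IsBlk M) (h' : IsBlk M') :
    IsBlk (M * M') := by
  rw [h.eq_blk, h'.eq_blk, blk_mul]
  exact isBlk_blk _ _ _ _ _

/-- The signed transposition of the last two coordinates. -/
def p12 : Matrix (Fin 3) (Fin 3) F := !![-1, 0, 0; 0, 0, 1; 0, 1, 0]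

theorem p12_diag (a b c : F) : p12 * blk a 0 0 b c = blk a 0 0 c b * p12 := by
  ext i j
  fin_cases i <;> fin_cases j <;> simp [p12, blk, Matrix.mul_apply, Fin.sum_univ_three]

theorem det_p12 : (p12 : Matrix (Fin 3) (Fin 3) F).det = 1 := by
  rw [Matrix.det_fin_three]; simp [p12]

/-- The hypotheses on a group of 3x3 matrices of determinant 1 used below: `N` is the group of
possible eigenvalues on the coordinate lines. -/
structure Data (H : Subgroup (Matrix.SpecialLinearGroup (Fin 3) F)) (N : Subgroup Fˣ) : Prop where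
  two_ne : (2 : F) ≠ 0
  neg_one_mem : (-1 : Fˣ) ∈ N
  diag_mem : ∀ (g : Matrix.SpecialLinearGroup (Fin 3) F) (a b c : Fˣ), a ∈ N → b ∈ N → c ∈ N →
    (g : Matrix (Fin 3) (Fin 3) F) = blk (a : F) 0 0 b c → g ∈ H
  entry_mem : ∀ g ∈ H, ∀ i : Fin 3, (∀ k, k ≠ i → (g : Matrix (Fin 3) (Fin 3) F) k i = 0) →
    ∃ u ∈ N, (u : F) = (g : Matrix (Fin 3) (Fin 3) F) i i
  swap_mem : ∀ g : Matrix.SpecialLinearGroup (Fin 3) F,
    (g : Matrix (Fin 3) (Fin 3) F) = blk 0 1 1 0 (-1) → g ∈ H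
  p12_mem : ∀ g : Matrix.SpecialLinearGroup (Fin 3) F,
    (g : Matrix (Fin 3) (Fin 3) F) = p12 → g ∈ H
  quat : ∃ a b : F, a * a + b * b = -1 ∧ ∀ g : Matrix.SpecialLinearGroup (Fin 3) F,
    (g : Matrix (Fin 3) (Fin 3) F) = blk a b b (-a) 1 → g ∈ H
  diagonalizable : ∀ x ∈ H, x * x = 1 → ∃ g ∈ H, ∃ a b c : F,
    (x : Matrix (Fin 3) (Fin 3) F) * (g : Matrix (Fin 3) (Fin 3) F) =
      (g : Matrix (Fin 3) (Fin 3) F) * blk a 0 0 b c
  sq_conj : ∀ y ∈ H, IsBlk (y : Matrix (Fin 3) (Fin 3) F) → (y : Matrix (Fin 3) (Fin 3) F) 2 2 = 1 →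
    ((y * y : Matrix.SpecialLinearGroup (Fin 3) F) : Matrix (Fin 3) (Fin 3) F)
      = blk (-1) 0 0 (-1) 1 →
    ∃ g ∈ H, (y : Matrix (Fin 3) (Fin 3) F) * (g : Matrix (Fin 3) (Fin 3) F) =
      (g : Matrix (Fin 3) (Fin 3) F) * blk 0 (-1) 1 0 1

variable {H : Subgroup (Matrix.SpecialLinearGroup (Fin 3) F)} {N : Subgroup Fˣ}

/-- The matrix of an element. -/
def mat : H →* Matrix (Fin 3) (Fin 3) F where
  toFun g := ((g : Matrix.SpecialLinearGroup (Fin 3) F) : Matrix (Fin 3) (Fin 3) F)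
  map_one' := rfl
  map_mul' _ _ := rfl

theorem mat_injective : Function.Injective (mat (H := H)) := fun _ _ h =>
  Subtype.ext (Subtype.ext h)

theorem det_mat (g : H) : (mat g).det = 1 := (g : Matrix.SpecialLinearGroup (Fin 3) F).2

theorem mat_eq {g h : H} (h1 : mat g = mat h) : g = h := mat_injective h1

namespace Data

variable (hD : Data H N)
include hD

theorem exists_diag {a b c : Fˣ} (ha : a ∈ N) (hb : b ∈ N) (hc : c ∈ N) (habc : a * b * c = 1) :
    ∃ g : H, mat g = blk (a : F) 0 0 b c := by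
  have hd : (blk (a : F) 0 0 b c).det = 1 := by
    rw [det_blk, mul_zero, sub_zero, ← Units.val_mul, ← Units.val_mul, habc, Units.val_one]
  exact ⟨⟨⟨_, hd⟩, hD.diag_mem _ a b c ha hb hc rfl⟩, rfl⟩

theorem exists_swap : ∃ g : H, mat g = blk 0 1 1 0 (-1) := by
  have hd : (blk (0 : F) 1 1 0 (-1)).det = 1 := by rw [det_blk]; ring
  exact ⟨⟨⟨_, hd⟩, hD.swap_mem _ rfl⟩, rfl⟩

theorem exists_p12 : ∃ g : H, mat g = p12 :=
  ⟨⟨⟨_, det_p12⟩, hD.p12_mem _ rfl⟩, rfl⟩

theorem exists_quat : ∃ a b : F, a * a + b * b = -1 ∧ ∃ g : H, mat g = blk a b b (-a) 1 := by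
  obtain ⟨a, b, hab, h⟩ := hD.quat
  have hd : (blk a b b (-a) 1).det = 1 := by rw [det_blk]; linear_combination -hab
  exact ⟨a, b, hab, ⟨⟨_, hd⟩, h _ rfl⟩, rfl⟩

theorem neg_one_ne_one : (-1 : F) ≠ 1 := fun h => hD.two_ne (by linear_combination -h)

/-- The central involution of the block subgroup. -/
theorem exists_zz : ∃ g : H, mat g = blk (-1) 0 0 (-1) 1 := by
  obtain ⟨g, hg⟩ := hD.exists_diag hD.neg_one_mem hD.neg_one_mem (one_mem N) (by simp)
  exact ⟨g, by simpa using hg⟩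

/-- Commuting with the central involution forces block shape. -/
theorem isBlk_of_commute {z g : H} (hz : mat z = blk (-1) 0 0 (-1) 1) (h : g * z = z * g) :
    IsBlk (mat g) := by
  have h' := congrArg mat h
  rw [map_mul, map_mul, hz] at h'
  have key : ∀ i j : Fin 3, (mat g * blk (-1) 0 0 (-1) 1 : Matrix (Fin 3) (Fin 3) F) i j
      = (blk (-1) 0 0 (-1) 1 * mat g : Matrix (Fin 3) (Fin 3) F) i j :=
    fun i j => by rw [h']
  have two := hD.two_ne
  refine ⟨?_, ?_, ?_, ?_⟩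
  · have := key 0 2
    simp [blk, Matrix.mul_apply, Fin.sum_univ_three] at this
    exact mul_left_cancel₀ two (by linear_combination this)
  · have := key 1 2
    simp [blk, Matrix.mul_apply, Fin.sum_univ_three] at this
    exact mul_left_cancel₀ two (by linear_combination this)
  · have := key 2 0
    simp [blk, Matrix.mul_apply, Fin.sum_univ_three] at this
    exact mul_left_cancel₀ two (by linear_combination -this)
  · have := key 2 1
    simp [blk, Matrix.mul_apply, Fin.sum_univ_three] at this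
    exact mul_left_cancel₀ two (by linear_combination -this)

theorem commute_of_isBlk {z g : H} (hz : mat z = blk (-1) 0 0 (-1) 1) (h : IsBlk (mat g)) :
    g * z = z * g := by
  refine mat_eq ?_
  rw [map_mul, map_mul, hz, h.eq_blk, blk_mul, blk_mul]
  congr 1 <;> ring

end Data

end Cfsg.Agent.Fusion3
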