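import Cfsg.Agent.Lib.Fusion3.Closed

/-
Odd order elements normalising a Sylow 2-subgroup in the block subgroup.
Main results (namespace `Cfsg.Agent.Fusion3`): `centralizes_kernel`, `centralizes_of_odd`.
-/

set_option autoImplicit false

namespace Cfsg.Agent.Fusion3

open Cfsg Cfsg.Agent.Fusion

/-- The automorphism of a subgroup induced by an element normalising it. -/
noncomputable def normAut {G : Type*} [Group G] [Finite G] (P : Subgroup G) (g : G)
    (hg : ∀ x ∈ P, g * x * g⁻¹ ∈ P) : MulAut P :=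
  MulEquiv.ofBijective
    (MonoidHom.mk' (fun x : P => (⟨g * x * g⁻¹, hg x x.2⟩ : P)) fun a b => Subtype.ext (by
      show g * (a * b : G) * g⁻¹ = (g * a * g⁻¹) * (g * b * g⁻¹); group))
    (Finite.injective_iff_bijective.1 fun a b h => Subtype.ext (by
      simpa using congrArg Subtype.val h))

theorem normAut_apply {G : Type*} [Group G] [Finite G] (P : Subgroup G) (g : G)
    (hg : ∀ x ∈ P, g * x * g⁻¹ ∈ P) (x : P) : (normAut P g hg x : G) = g * x * g⁻¹ := rfl

theorem normAut_pow {G : Type*} [Group G] [Finite G] (P : Subgroup G) (g : G)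
    (hg : ∀ x ∈ P, g * x * g⁻¹ ∈ P) (k : ℕ) (x : P) :
    ((normAut P g hg ^ k) x : G) = g ^ k * x * (g ^ k)⁻¹ := by
  induction k with
  | zero => simp
  | succ k ih =>
    rw [pow_succ', MulAut.mul_apply, normAut_apply, ih, pow_succ']
    group

theorem normAut_pow_eq_one {G : Type*} [Group G] [Finite G] (P : Subgroup G) (g : G)
    (hg : ∀ x ∈ P, g * x * g⁻¹ ∈ P) {k : ℕ} (hk : g ^ k = 1) : normAut P g hg ^ k = 1 :=
  MulEquiv.ext fun x => Subtype.ext (by rw [normAut_pow, hk]; simp)

variable {F : Type*} [Field F]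
variable {H : Subgroup (Matrix.SpecialLinearGroup (Fin 3) F)} {N : Subgroup Fˣ}
variable [Finite H]
variable [Finite F] (S : Sylow 2 H)

namespace Data

variable (hD : Data H N) (hS : ∀ x ∈ (S : Subgroup H), IsBlk (mat x))
include hS hD

/-- An odd order element of the block subgroup normalising `S` centralises `S ∩ kerSub`. -/
theorem centralizes_kernel {g : H} (hgb : IsBlk (mat g)) (hgo : Odd (orderOf g))
    (hg : ∀ x ∈ (S : Subgroup H), g * x * g⁻¹ ∈ (S : Subgroup H)) :
    ∀ x ∈ (S : Subgroup H) ⊓ kerSub H, g * x * g⁻¹ = x := by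
  classical
  obtain ⟨z, hz⟩ := hD.exists_zz
  obtain ⟨i, j, a, b, c, hc, hab, hi, hj, hii, hjj, hij, n, hn, ⟨e⟩⟩ :=
    kernel_quaternion S hD hS hz
  set Q := (S : Subgroup H) ⊓ kerSub H with hQdef
  have hQnorm : ∀ y : H, IsBlk (mat y) → (∀ x ∈ (S : Subgroup H), y * x * y⁻¹ ∈ (S : Subgroup H)) →
      ∀ x ∈ Q, y * x * y⁻¹ ∈ Q := fun y hy hyS x hx =>
    ⟨hyS x hx.1, mem_kerSub.2 ⟨hS _ (hyS x hx.1), by
      rw [delta_conj hy (kerSub_le hx.2)]; exact (mem_kerSub.1 hx.2).2⟩⟩
  set φ := normAut Q g (hQnorm g hgb hg) with hφdef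
  have hφm : φ ^ orderOf g = 1 := normAut_pow_eq_one _ _ _ (pow_orderOf_eq_one g)
  suffices hφ : φ = 1 by
    intro x hx
    have : (φ ⟨x, hx⟩ : H) = x := by rw [hφ]; rfl
    exact this
  rcases lt_or_eq_of_le hn with h2 | h1
  · obtain ⟨k, hk⟩ := S5112.aut_congr e (S5112.aut_quaternion n h2) φ
    exact fixes_of_odd_of_two_group hgo hφm hk
  subst h1
  let C : MulAut Q →* MulAut Q8 := (MulAut.congr e).toMonoidHom
  have hCinj : Function.Injective C := (MulAut.congr e).injective
  by_contra hφ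
  have hφC : C φ ≠ 1 := fun h => hφ (hCinj (h.trans (map_one C).symm))
  -- every element of S fixes the classes
  have hfix : ∀ s ∈ (S : Subgroup H), ∀ x ∈ Q, s * x * s⁻¹ = x ∨ s * x * s⁻¹ = x * z := by
    intro s hs x hx
    have hsS : ∀ y ∈ (S : Subgroup H), s * y * s⁻¹ ∈ (S : Subgroup H) := fun y hy =>
      mul_mem (mul_mem hs hy) (inv_mem hs)
    set ψ := normAut Q s (hQnorm s (hS s hs) hsS) with hψdef
    obtain ⟨k, hk⟩ := S.isPGroup' ⟨s, hs⟩
    have hψk : ψ ^ 2 ^ k = 1 := normAut_pow_eq_one _ _ _ (congrArg Subtype.val hk)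
    set q := g * s * g⁻¹ * s⁻¹ with hqdef
    have hqS : q ∈ (S : Subgroup H) := mul_mem (hg s hs) (inv_mem hs)
    have hqQ : q ∈ Q := by
      refine ⟨hqS, mem_kerSub.2 ⟨hS q hqS, ?_⟩⟩
      rw [hqdef, delta_mul_mem (hS _ (hg s hs)) (hS _ (inv_mem hs)), delta_conj hgb (hS s hs),
        ← delta_mul_mem (hS s hs) (hS _ (inv_mem hs)), mul_inv_cancel, map_one]
      simp
    have hc1 : φ * ψ = MulAut.conj (⟨q, hqQ⟩ : Q) * ψ * φ := by
      refine MulEquiv.ext fun y => Subtype.ext ?_
      show g * (s * y * s⁻¹) * g⁻¹ = q * (s * (g * y * g⁻¹) * s⁻¹) * q⁻¹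
      rw [hqdef]; group
    have hcC : C φ * C ψ = MulAut.conj (e ⟨q, hqQ⟩) * C ψ * C φ := by
      rw [← map_mul, hc1, map_mul, map_mul]
      congr 2
      exact MulEquiv.ext fun y => by simp [C, MulAut.congr]
    rcases q8_aut_dichotomy (C φ) (C ψ) hgo (by rw [← map_pow, hφm, map_one])
      (by rw [← map_pow, hψk, map_one]) hcC with h | h
    · exact absurd h hφC
    have hez : e ⟨z, zz_mem S hS hD hz, hD.zz_mem_kerSub hz⟩ = QuaternionGroup.a 2 := by
      have h' : ∀ y : Q8, y * y = 1 → y ≠ 1 → y = .a 2 := by decide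
      refine h' _ ?_ ?_
      · refine (map_mul e _ _).symm.trans (?_ : _ = (1 : Q8))
        rw [show ((⟨z, zz_mem S hS hD hz, hD.zz_mem_kerSub hz⟩ : Q) *
          ⟨z, zz_mem S hS hD hz, hD.zz_mem_kerSub hz⟩) = 1 from Subtype.ext (hD.zz_sq hz), map_one]
      · intro h1
        exact hD.zz_ne hz (congrArg Subtype.val (e.injective (h1.trans (map_one e).symm)))
    have he : C ψ (e ⟨x, hx⟩) = e (ψ ⟨x, hx⟩) := by simp [C, MulAut.congr]
    rcases h (e ⟨x, hx⟩) with h | h
    · left
      exact congrArg Subtype.val (e.injective (he.symm.trans h))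
    · right
      rw [← hez, he, ← map_mul] at h
      exact congrArg Subtype.val (e.injective h)
  -- so every value of delta on S is a square
  set I := c * i * c⁻¹ with hIdef
  set J := c * j * c⁻¹ with hJdef
  have hzc : ∀ y : H, IsBlk (mat y) → y * z = z * y := fun y hy => hD.commute_of_isBlk hz hy
  have hIJ : I * J = z * (J * I) := by
    have h0 : i * j = z * (j * i) := mat_eq (by
      simp only [map_mul, hi, hj, hz, blk_mul, blk_inj]
      refine ⟨?_, ?_, ?_, ?_, ?_⟩ <;> ring)
    rw [hIdef, hJdef]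
    calc c * i * c⁻¹ * (c * j * c⁻¹) = c * (i * j) * c⁻¹ := by group
      _ = (c * z) * (j * i) * c⁻¹ := by rw [h0]; group
      _ = z * (c * j * c⁻¹ * (c * i * c⁻¹)) := by rw [hzc c hc]; group
  have hJI : J * I = z * (I * J) := by
    rw [hIJ, ← mul_assoc z z, hD.zz_sq hz, one_mul]
  -- correct s by an element of Q to centralise I and J
  have hcorr : ∀ s ∈ (S : Subgroup H), ∃ q ∈ Q,
      s * q * I = I * (s * q) ∧ s * q * J = J * (s * q) := by
    intro s hs
    have hsI : s * I = I * s ∨ s * I = I * z * s := by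
      rcases hfix s hs I hii with h | h
      · exact Or.inl (mul_inv_eq_iff_eq_mul.1 h)
      · exact Or.inr (mul_inv_eq_iff_eq_mul.1 h)
    have hsJ : s * J = J * s ∨ s * J = J * z * s := by
      rcases hfix s hs J hjj with h | h
      · exact Or.inl (mul_inv_eq_iff_eq_mul.1 h)
      · exact Or.inr (mul_inv_eq_iff_eq_mul.1 h)
    have hzI := hzc I (hS I hii.1)
    have hzJ := hzc J (hS J hjj.1)
    have hzs := hzc s (hS s hs)
    have zz1 := hD.zz_sq hz
    rcases hsI with h1 | h1 <;> rcases hsJ with h2 | h2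
    · exact ⟨1, one_mem _, by simp [h1], by simp [h2]⟩
    · refine ⟨I, hii, by rw [h1, mul_assoc, h1], ?_⟩
      calc s * I * J = s * z * (J * I) := by rw [mul_assoc s z, ← hIJ, mul_assoc]
        _ = z * (s * J) * I := by rw [hzs]; group
        _ = z * (z * J * s) * I := by rw [h2, hzJ]
        _ = z * z * (J * (s * I)) := by group
        _ = J * (s * I) := by rw [zz1, one_mul]
    · refine ⟨J, hjj, ?_, by rw [h2, mul_assoc, h2]⟩
      calc s * J * I = s * z * (I * J) := by rw [mul_assoc s z, ← hJI, mul_assoc]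
        _ = z * (s * I) * J := by rw [hzs]; group
        _ = z * (z * I * s) * J := by rw [h1, hzI]
        _ = z * z * (I * (s * J)) := by group
        _ = I * (s * J) := by rw [zz1, one_mul]
    · refine ⟨I * J, mul_mem hii hjj, ?_, ?_⟩
      · calc s * (I * J) * I = s * I * (J * I) := by group
          _ = I * z * s * (z * (I * J)) := by rw [h1, hJI]
          _ = I * (z * z) * (s * (I * J)) := by
            rw [mul_assoc (I * z), ← mul_assoc s z, hzs]
            group
          _ = I * (s * (I * J)) := by rw [zz1, mul_one]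
      · calc s * (I * J) * J = s * (z * (J * I)) * J := by rw [hIJ]
          _ = z * (s * J) * (I * J) := by rw [← mul_assoc s, hzs]; group
          _ = z * (J * z * s) * (I * J) := by rw [h2]
          _ = (z * z) * J * (s * (I * J)) := by
            rw [hzJ]; group
          _ = J * (s * (I * J)) := by rw [zz1, one_mul]
  have hsquare : ∀ s ∈ (S : Subgroup H), ∃ u ∈ twoPart N, ((u * u : Fˣ) : F) = mat s 2 2 := by
    intro s hs
    obtain ⟨q, hq, hqI, hqJ⟩ := hcorr s hs
    have hsq : s * q ∈ (S : Subgroup H) := mul_mem hs hq.1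
    have hcb : IsBlk (mat (c⁻¹ * (s * q) * c)) :=
      mem_blockSub.1 (mul_mem (mul_mem (inv_mem hc) (mem_blockSub.2 (hS _ hsq))) hc)
    set y := c⁻¹ * (s * q) * c with hy
    have hyi : y * i = i * y := by
      calc y * i = c⁻¹ * (s * q * I) * c := by rw [hy, hIdef]; group
        _ = c⁻¹ * (I * (s * q)) * c := by rw [hqI]
        _ = i * y := by rw [hy, hIdef]; group
    have hyj : y * j = j * y := by
      calc y * j = c⁻¹ * (s * q * J) * c := by rw [hy, hJdef]; group
        _ = c⁻¹ * (J * (s * q)) * c := by rw [hqJ]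
        _ = j * y := by rw [hy, hJdef]; group
    obtain ⟨p, v, r, t, w, hw⟩ := hcb.exists_eq
    have e1 := congrArg mat hyi
    have e2 := congrArg mat hyj
    rw [map_mul mat y i, map_mul mat i y, hw, hi, blk_mul, blk_mul, blk_inj] at e1
    rw [map_mul mat y j, map_mul mat j y, hw, hj, blk_mul, blk_mul, blk_inj] at e2
    obtain ⟨a1, a2, -, -, -⟩ := e1
    obtain ⟨b1, b2, -, -, -⟩ := e2
    have hr : r = -v := by linear_combination a1
    have ht : t = p := by linear_combination a2
    subst hr ht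
    have hvb : v * b = 0 := mul_left_cancel₀ hD.two_ne (by linear_combination b1)
    have hva : v * a = 0 := mul_left_cancel₀ hD.two_ne (by linear_combination -b2)
    have hv : v = 0 := by linear_combination -a * hva - b * hvb + v * hab
    subst hv
    rw [neg_zero] at hw
    have hdet := det_mat y
    rw [hw, det_blk] at hdet
    obtain ⟨u, hu, hue⟩ := hD.entry_mem _ y.2 0 (fun k hk => by
      show mat y k 0 = 0
      rw [hw]
      fin_cases k <;> simp [blk] at hk ⊢)
    have hup : (u : F) = t := by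
      rw [hue]; show mat y 0 0 = t; rw [hw]; simp [blk]
    obtain ⟨k, hk⟩ := S.isPGroup' ⟨s * q, hsq⟩
    have hyk : y ^ 2 ^ k = 1 := by
      have h' : (s * q) ^ 2 ^ k = 1 := congrArg Subtype.val hk
      have := conj_pow (a := c⁻¹) (b := s * q) (i := 2 ^ k)
      rw [inv_inv, h'] at this
      rw [hy, this]; group
    have hpow : ∀ m : ℕ, mat (y ^ m) = blk (t ^ m) 0 0 (t ^ m) (w ^ m) := by
      intro m
      induction m with
      | zero => simp [blk_one]
      | succ m ih => rw [pow_succ, map_mul, ih, hw, blk_mul, blk_inj]; simp [pow_succ]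
    have htk := hpow (2 ^ k)
    rw [hyk, map_one, eq_comm, blk_eq_one] at htk
    have hu2 : u ∈ twoPart N := ⟨hu, k, Units.ext (by
      rw [Units.val_pow_eq_pow_val, hup, htk.1, Units.val_one])⟩
    refine ⟨u⁻¹, inv_mem hu2, ?_⟩
    have hwy : mat y 2 2 = w := by rw [hw]; simp [blk]
    have hconj : mat y 2 2 = mat (s * q) 2 2 := by
      rw [hy]
      have := delta_conj (c := c⁻¹) (x := s * q) (inv_mem hc) (hS _ hsq)
      rwa [inv_inv] at this
    rw [delta_mul_mem (hS s hs) (kerSub_le hq.2), (mem_kerSub.1 hq.2).2, mul_one] at hconj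
    rw [← hconj, hwy, Units.val_mul, Units.val_inv_eq_inv_val, hup]
    have ht0 : t ≠ 0 := hup ▸ u.ne_zero
    field_simp
    linear_combination -hdet
  -- but not every element of the 2-part is a square
  obtain ⟨w, hw⟩ := hD.exists_swap
  obtain ⟨M, hM2, -, hMb, hMd⟩ := hD.exists_monomial hw
  obtain ⟨c', hc', hcM⟩ := exists_conj_into S hS hM2 hMb
  have hsurj : Function.Surjective fun u : twoPart N => u * u := by
    intro u
    have hui := inv_mem u.2
    obtain ⟨d, hd⟩ := hD.exists_diag (a := (u : Fˣ)⁻¹) (b := 1) (c := (u : Fˣ)) hui.1 (one_mem N)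
      u.2.1 (by simp)
    have hdM : d ∈ M := hMd _ hui _ (one_mem _) d (by rw [hd]; simp)
    obtain ⟨v, hv, hve⟩ := hsquare _ (hcM d hdM)
    refine ⟨⟨v, hv⟩, Subtype.ext (Units.ext ?_)⟩
    show ((v * v : Fˣ) : F) = ((u : Fˣ) : F)
    rw [hve, delta_conj hc' (hMb d hdM), hd]
    simp [blk]
  have hinj := Finite.injective_iff_surjective.2 hsurj
  have h1 := @hinj ⟨-1, neg_one_mem_twoPart hD⟩ 1 (Subtype.ext (by simp))
  exact hD.neg_one_ne_one (congrArg Units.val (congrArg Subtype.val h1))

/-- An element of odd order normalising `S` centralises it. -/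
theorem centralizes_of_odd {g : H} (hgo : Odd (orderOf g))
    (hg : ∀ x ∈ (S : Subgroup H), g * x * g⁻¹ ∈ (S : Subgroup H)) :
    ∀ x ∈ (S : Subgroup H), g * x * g⁻¹ = x := by
  obtain ⟨z, hz⟩ := hD.exists_zz
  have hzS := zz_mem S hS hD hz
  have hgb : IsBlk (mat g) := by
    obtain ⟨w, hw⟩ := hD.exists_swap
    obtain ⟨d, hd⟩ := hD.exists_diag (a := 1) (one_mem N) hD.neg_one_mem hD.neg_one_mem (by simp)
    obtain ⟨M, hM2, hwM, hMb, hMd⟩ := hD.exists_monomial hw
    have hdM : d ∈ M := hMd 1 (one_mem _) (-1) (neg_one_mem_twoPart hD) d (by rw [hd]; simp)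
    obtain ⟨c, hc, hcM⟩ := exists_conj_into S hS hM2 hMb
    set u := g * z * g⁻¹ with hu
    have huS : u ∈ (S : Subgroup H) := hg z hzS
    have hu2 : u * u = 1 := by
      calc u * u = g * (z * z) * g⁻¹ := by rw [hu]; group
        _ = 1 := by rw [hD.zz_sq hz]; group
    have hu1 : u ≠ 1 := fun h => hD.zz_ne hz (by
      have h' : z = g⁻¹ * u * g := by rw [hu]; group
      rw [h', h]; group)
    -- u commutes with all of S
    have hgS : ∀ y ∈ (S : Subgroup H), ∃ x ∈ (S : Subgroup H), g * x * g⁻¹ = y := by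
      intro y hy
      refine ⟨g⁻¹ * y * g, ?_, by group⟩
      have hk : ∀ k : ℕ, ∀ x ∈ (S : Subgroup H), g ^ k * x * (g ^ k)⁻¹ ∈ (S : Subgroup H) := by
        intro k
        induction k with
        | zero => simp
        | succ k ih =>
          intro x hx
          have := hg _ (ih x hx)
          rw [pow_succ']
          simpa [mul_assoc] using this
      have h' : g⁻¹ = g ^ (orderOf g - 1) := by
        rw [inv_eq_iff_mul_eq_one, ← pow_succ', Nat.sub_add_cancel (orderOf_pos g),
          pow_orderOf_eq_one]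
      have := hk (orderOf g - 1) y hy
      rwa [← h', inv_inv] at this
    have hucomm : ∀ y ∈ (S : Subgroup H), u * y = y * u := by
      intro y hy
      obtain ⟨x, hx, rfl⟩ := hgS y hy
      calc u * (g * x * g⁻¹) = g * (z * x) * g⁻¹ := by rw [hu]; group
        _ = g * (x * z) * g⁻¹ := by rw [hD.commute_of_isBlk hz (hS x hx)]
        _ = _ := by rw [hu]; group
    set u' := c⁻¹ * u * c with hu'
    have hu'b : IsBlk (mat u') :=
      mem_blockSub.1 (mul_mem (mul_mem (inv_mem hc) (mem_blockSub.2 (hS _ huS))) hc)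
    have hcomm : ∀ m ∈ M, u' * m = m * u' := fun m hm => by
      calc u' * m = c⁻¹ * (u * (c * m * c⁻¹)) * c := by rw [hu']; group
        _ = c⁻¹ * ((c * m * c⁻¹) * u) * c := by rw [hucomm _ (hcM m hm)]
        _ = _ := by rw [hu']; group
    have h1 := congrArg mat (hcomm d hdM)
    have h2 := congrArg mat (hcomm w hwM)
    obtain ⟨a, b, p, t, e, he⟩ := hu'b.exists_eq
    simp only [map_mul, he, hd, hw, blk_mul, blk_inj, Units.val_one, Units.val_neg] at h1 h2
    obtain ⟨-, h12, h13, -, -⟩ := h1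
    obtain ⟨-, h22, -, -, -⟩ := h2
    have hb : b = 0 := mul_left_cancel₀ hD.two_ne (by linear_combination -h12)
    have hp : p = 0 := mul_left_cancel₀ hD.two_ne (by linear_combination h13)
    subst hb hp
    have hta : t = a := by linear_combination -h22
    subst hta
    have hu'2 : u' * u' = 1 := by
      calc u' * u' = c⁻¹ * (u * u) * c := by rw [hu']; group
        _ = 1 := by rw [hu2]; group
    have h3 := congrArg mat hu'2
    rw [map_mul, map_one, he, blk_mul, blk_eq_one] at h3
    have hdet := det_mat u'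
    rw [he, det_blk] at hdet
    have he1 : e = 1 := by linear_combination hdet - e * h3.1
    have hu'z : u' = z := by
      refine (hD.sq_eq_one_of_ker hz (mem_kerSub.2 ⟨hu'b, ?_⟩) hu'2).resolve_left fun h => hu1 ?_
      · rw [he]; simp [blk, he1]
      · have : u = c * u' * c⁻¹ := by rw [hu']; group
        rw [this, h]; group
    have huz : g * z * g⁻¹ = z := by
      have : u = c * u' * c⁻¹ := by rw [hu']; group
      rw [← hu, this, hu'z, hD.commute_of_isBlk hz (mem_blockSub.1 hc), mul_inv_cancel_right]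
    exact hD.isBlk_of_commute hz (mul_inv_eq_iff_eq_mul.1 huz)
  have hQ := centralizes_kernel S hD hS hgb hgo hg
  intro x hx
  set q := g * x * g⁻¹ * x⁻¹ with hq
  have hqS : q ∈ (S : Subgroup H) := mul_mem (hg x hx) (inv_mem hx)
  have hqQ : q ∈ (S : Subgroup H) ⊓ kerSub H := by
    refine ⟨hqS, mem_kerSub.2 ⟨hS q hqS, ?_⟩⟩
    rw [hq, delta_mul_mem (hS _ (hg x hx)) (hS _ (inv_mem hx)), delta_conj hgb (hS x hx),
      ← delta_mul_mem (hS x hx) (hS _ (inv_mem hx)), mul_inv_cancel, map_one]
    simp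
  have hgq := hQ q hqQ
  have key : ∀ k : ℕ, g ^ k * x * (g ^ k)⁻¹ = q ^ k * x := by
    intro k
    induction k with
    | zero => simp
    | succ k ih =>
      have hgx : g * x * g⁻¹ = q * x := by rw [hq]; group
      calc g ^ (k + 1) * x * (g ^ (k + 1))⁻¹ = g * (g ^ k * x * (g ^ k)⁻¹) * g⁻¹ := by
            rw [pow_succ']; group
        _ = (g * q * g⁻¹) ^ k * (g * x * g⁻¹) := by rw [ih, conj_pow]; group
        _ = q ^ k * (q * x) := by rw [hgq, hgx]
        _ = q ^ (k + 1) * x := ((mul_assoc (q ^ k) q x).symm).trans (congrArg (· * x) (pow_succ q k).symm)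
  have h0 := key (orderOf g)
  rw [pow_orderOf_eq_one, one_mul, inv_one, mul_one] at h0
  have hqm : q ^ orderOf g = 1 := (eq_comm.1 h0 |> fun h => mul_eq_right.1 h)
  obtain ⟨k, hk⟩ := S.isPGroup' ⟨q, hqS⟩
  have := fixes_of_odd_of_two_group hgo hqm (congrArg Subtype.val hk : q ^ 2 ^ k = 1)
  rw [hq, mul_inv_eq_one] at this
  exact this

end Data

end Cfsg.Agent.Fusion3
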