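import Mathlib
import Cfsg.Agent.EqLemmas
import Cfsg.Agent.S5112
import Cfsg.Agent.Lib.PGroup.UniqueOrderP

/-
Automorphisms of generalised quaternion groups.
Main results (namespace `Cfsg.Agent.Fusion3`): `q8_aut_dichotomy` (an automorphism of `Q₈` of odd
order normalising a 2-element of `Out Q₈` is trivial unless that element is trivial),
`quaternion_closure_order_four`, `fixes_of_odd_of_two_group`.
-/

set_option autoImplicit false

namespace Cfsg.Agent.Fusion3

abbrev Q8 := QuaternionGroup 2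

/-- The class of an element of `Q8` modulo its centre. -/
def cl : Q8 → Fin 4
  | .a i => if i = 0 ∨ i = 2 then 0 else 1
  | .xa i => if i = 0 ∨ i = 2 then 2 else 3

/-- A representative of a class. -/
def rp : Fin 4 → Q8
  | 0 => .a 0
  | 1 => .a 1
  | 2 => .xa 0
  | 3 => .xa 1

theorem cl_eq_iff : ∀ x y : Q8, cl x = cl y ↔ (y = x ∨ y = x * .a 2) := by decide

theorem cl_rp : ∀ a : Fin 4, cl (rp a) = a := by decide

theorem cl_conj : ∀ x y : Q8, cl (x * y * x⁻¹) = cl y := by decide

theorem aut_center (φ : MulAut Q8) : φ (.a 2) = .a 2 := by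
  have h : ∀ y : Q8, y * y = 1 → y ≠ 1 → y = .a 2 := by decide
  refine h _ ?_ ?_
  · rw [← map_mul, show (QuaternionGroup.a 2 : Q8) * .a 2 = 1 by decide, map_one]
  · intro h2
    rw [← map_one φ] at h2
    exact absurd (φ.injective h2) (by decide)

theorem cl_aut (φ : MulAut Q8) {x y : Q8} (h : cl x = cl y) : cl (φ x) = cl (φ y) := by
  rw [cl_eq_iff] at h ⊢
  rcases h with rfl | rfl
  · exact Or.inl rfl
  · exact Or.inr (by rw [map_mul, aut_center])

/-- The action of `Aut Q8` on the classes. -/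
def perm : MulAut Q8 →* Equiv.Perm (Fin 4) where
  toFun φ :=
    { toFun := fun a => cl (φ (rp a))
      invFun := fun a => cl (φ⁻¹ (rp a))
      left_inv := fun a => by
        have := cl_aut φ⁻¹ (cl_rp (cl (φ (rp a))))
        simpa [cl_rp] using this
      right_inv := fun a => by
        have := cl_aut φ (cl_rp (cl (φ⁻¹ (rp a))))
        simpa [cl_rp] using this }
  map_one' := Equiv.ext fun a => cl_rp a
  map_mul' φ ψ := Equiv.ext fun a => (cl_aut φ (cl_rp (cl (ψ (rp a))))).symm

theorem perm_apply_cl (φ : MulAut Q8) (x : Q8) : perm φ (cl x) = cl (φ x) :=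
  cl_aut φ (cl_rp (cl x))

theorem perm_conj (x : Q8) : perm (MulAut.conj x) = 1 :=
  Equiv.ext fun a => (cl_conj x (rp a)).trans (cl_rp a)

theorem perm_fix (φ : MulAut Q8) : perm φ 0 = 0 := by
  have := perm_apply_cl φ 1
  rwa [map_one, show cl (1 : Q8) = 0 by decide] at this

theorem perm4_aux : ∀ σ τ : Equiv.Perm (Fin 4), σ 0 = 0 → τ 0 = 0 → σ ^ 3 = 1 → σ ≠ 1 →
    σ * τ = τ * σ → τ ^ 8 = 1 → τ = 1 := by decide +kernel

theorem pow_gcd_eq_one' {M : Type*} [Monoid M] {x : M} {m n : ℕ} (hm : x ^ m = 1) (hn : x ^ n = 1) :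
    x ^ Nat.gcd m n = 1 :=
  orderOf_dvd_iff_pow_eq_one.1
    (Nat.dvd_gcd (orderOf_dvd_of_pow_eq_one hm) (orderOf_dvd_of_pow_eq_one hn))

theorem perm_pow_24 (σ : Equiv.Perm (Fin 4)) : σ ^ 24 = 1 := by
  have h : Nat.card (Equiv.Perm (Fin 4)) = 24 := by
    rw [Nat.card_eq_fintype_card, Fintype.card_perm]; decide
  rw [← h]; exact pow_card_eq_one'

/-- `Q₈`: an automorphism `φ` of odd order and a 2-element `ψ` commuting modulo inner
automorphisms: `φ` is trivial or `ψ` fixes all classes modulo the centre. -/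
theorem q8_aut_dichotomy (φ ψ : MulAut Q8) {m k : ℕ} (hm : Odd m) (hφ : φ ^ m = 1)
    (hψ : ψ ^ 2 ^ k = 1) {x : Q8} (hc : φ * ψ = MulAut.conj x * ψ * φ) :
    φ = 1 ∨ ∀ y : Q8, ψ y = y ∨ ψ y = y * .a 2 := by
  by_cases h : perm φ = 1
  · left
    have key : ∀ y : Q8, φ y = y ∨ φ y = y * .a 2 := fun y =>
      (cl_eq_iff y (φ y)).1 (by rw [← perm_apply_cl, h, Equiv.Perm.one_apply])
    have h2 : φ ^ 2 = 1 := by
      refine MulEquiv.ext fun y => ?_
      rw [pow_two, MulAut.mul_apply, MulAut.one_apply]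
      rcases key y with e | e
      · rw [e, e]
      · rw [e, map_mul, aut_center, e, mul_assoc, show (QuaternionGroup.a 2 : Q8) * .a 2 = 1 by decide,
          mul_one]
    have := pow_gcd_eq_one' hφ h2
    rwa [show Nat.gcd m 2 = 1 from Nat.coprime_two_right.2 hm, pow_one] at this
  · right
    intro y
    refine (cl_eq_iff y (ψ y)).1 ?_
    rw [← perm_apply_cl]
    suffices hs : perm ψ = 1 by rw [hs, Equiv.Perm.one_apply]
    refine perm4_aux (perm φ) (perm ψ) (perm_fix φ) (perm_fix ψ) ?_ h ?_ ?_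
    · have h1 : perm φ ^ m = 1 := by rw [← map_pow, hφ, map_one]
      have hg : Nat.gcd m 24 ∣ 3 := by
        have h8 : Nat.Coprime (Nat.gcd m 24) 8 := by
          have h2' : Nat.Coprime m (2 ^ 3) := (Nat.coprime_two_right.2 hm).pow_right 3
          exact h2'.coprime_dvd_left (Nat.gcd_dvd_left m 24)
        exact h8.dvd_of_dvd_mul_right (n := 8) (m := 3) (Nat.gcd_dvd_right m 24)
      obtain ⟨d, hd⟩ := hg
      rw [hd, pow_mul, pow_gcd_eq_one' h1 (perm_pow_24 _), one_pow]
    · rw [← map_mul, hc, map_mul, map_mul, perm_conj, one_mul]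
    · have h1 : perm ψ ^ 2 ^ k = 1 := by rw [← map_pow, hψ, map_one]
      have hg : Nat.gcd (2 ^ k) 24 ∣ 8 := by
        rcases le_or_gt k 3 with hk | hk
        · exact (Nat.gcd_dvd_left _ _).trans ((pow_dvd_pow 2 hk).trans (dvd_refl 8))
        · have : Nat.Coprime (Nat.gcd (2 ^ k) 24) 3 :=
            (Nat.Coprime.pow_left k (by decide : Nat.Coprime 2 3)).coprime_dvd_left
              (Nat.gcd_dvd_left _ _)
          exact this.dvd_of_dvd_mul_right (n := 3) (m := 8) (Nat.gcd_dvd_right (2 ^ k) 24)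
      obtain ⟨d, hd⟩ := hg
      rw [hd, pow_mul, pow_gcd_eq_one' h1 (perm_pow_24 _), one_pow]

/-- In a generalised quaternion group every element is a product of elements of order 4. -/
theorem quaternion_closure_order_four (n : ℕ) :
    Subgroup.closure {y : QuaternionGroup (2 ^ n) | orderOf y = 4} = ⊤ := by
  haveI : NeZero (2 ^ n) := ⟨by positivity⟩
  set C := Subgroup.closure {y : QuaternionGroup (2 ^ n) | orderOf y = 4}
  have hxa : ∀ i, QuaternionGroup.xa i ∈ C := fun i =>
    Subgroup.subset_closure (QuaternionGroup.orderOf_xa i)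
  rw [eq_top_iff]
  rintro (i | i) -
  · have h := mul_mem (hxa 0) (hxa (i - ((2 ^ n : ℕ) : ZMod (2 * 2 ^ n))))
    rw [QuaternionGroup.xa_mul_xa] at h
    convert h using 2
    abel
  · exact hxa i

/-- An element of odd order acting on a group whose automorphism group is a 2-group is trivial. -/
theorem fixes_of_odd_of_two_group {A : Type*} [Monoid A] {φ : A} {m k : ℕ} (hm : Odd m)
    (hφ : φ ^ m = 1) (hk : φ ^ 2 ^ k = 1) : φ = 1 := by
  have := pow_gcd_eq_one' hφ hk
  rwa [show Nat.gcd m (2 ^ k) = 1 from (Nat.coprime_two_right.2 hm).pow_right k, pow_one] at this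

end Cfsg.Agent.Fusion3
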