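import Cfsg.Agent.Lib.Fusion3.Torus
import Cfsg.Agent.Lib.Fusion3.Quat
import Cfsg.Agent.Lib.Fusion.SylowIn

/-
Strongly closed subgroups of a Sylow 2-subgroup in the block subgroup.
Main results (namespace `Cfsg.Agent.Fusion3`): `exists_conj_into`, `involution_conj`,
`eq_sylow_of_closed`.
-/

set_option autoImplicit false

namespace Cfsg.Agent.Fusion3

open Cfsg Cfsg.Agent.Fusion

variable {F : Type*} [Field F]
variable {H : Subgroup (Matrix.SpecialLinearGroup (Fin 3) F)} {N : Subgroup Fˣ}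
variable [Finite H]

/-- `T` is closed under conjugation inside `S`. -/
def Closed {G : Type*} [Group G] (S T : Subgroup G) : Prop :=
  T ≤ S ∧ ∀ x ∈ T, ∀ g : G, g * x * g⁻¹ ∈ S → g * x * g⁻¹ ∈ T

variable (S : Sylow 2 H)

namespace Data

variable (hD : Data H N) (hS : ∀ x ∈ (S : Subgroup H), IsBlk (mat x))
include hS

/-- A 2-subgroup of the block subgroup goes into `S` under a block element. -/
theorem exists_conj_into {M : Subgroup H} (hM : IsPGroup 2 M) (hMb : ∀ g ∈ M, IsBlk (mat g)) :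
    ∃ c ∈ blockSub H, ∀ g ∈ M, c * g * c⁻¹ ∈ (S : Subgroup H) := by
  have h : IsSylowIn 2 (S : Subgroup H) (blockSub H) :=
    ⟨hS, S.isPGroup', fun C h1 _ h3 => S.is_maximal' h3 h1⟩
  exact h.exists_conj_le hM hMb

omit hS in
include hD in
/-- All involutions are conjugate. -/
theorem involution_conj {z x : H} (hz : mat z = blk (-1) 0 0 (-1) 1) (hx : x * x = 1) (hx1 : x ≠ 1) :
    ∃ g : H, x = g * z * g⁻¹ := by
  obtain ⟨g, hg, a, b, c, he⟩ := hD.diagonalizable _ x.2 (congrArg Subtype.val hx)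
  let g' : H := ⟨g, hg⟩
  have he' : mat x * mat g' = mat g' * blk a 0 0 b c := he
  have hd : mat (g'⁻¹ * x * g') = blk a 0 0 b c := by
    rw [map_mul, map_mul, mul_assoc, he', ← mul_assoc, ← map_mul, inv_mul_cancel, map_one, one_mul]
  set d := g'⁻¹ * x * g' with hdef
  have hxd : x = g' * d * g'⁻¹ := by rw [hdef]; group
  suffices hs : ∃ h : H, d = h * z * h⁻¹ by
    obtain ⟨h, hh⟩ := hs
    exact ⟨g' * h, by rw [hxd, hh]; group⟩
  have hd2 : d * d = 1 := by
    rw [hdef]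
    calc g'⁻¹ * x * g' * (g'⁻¹ * x * g') = g'⁻¹ * (x * x) * g' := by group
      _ = 1 := by rw [hx]; group
  have hd1 : d ≠ 1 := fun h => hx1 (by rw [hxd, h]; group)
  have h2 := congrArg mat hd2
  rw [map_mul, map_one, hd, blk_mul, blk_eq_one] at h2
  obtain ⟨ea, -, -, eb, ec⟩ := h2
  have hdet := det_mat d
  rw [hd, det_blk] at hdet
  have hne := hD.neg_one_ne_one
  obtain ⟨w, hw⟩ := hD.exists_swap
  obtain ⟨p, hp⟩ := hD.exists_p12
  have hp1 : ∀ u v r : F, ∀ e : H, mat e = blk u 0 0 v r → mat (p * e * p⁻¹) = blk u 0 0 r v := by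
    intro u v r e he
    rw [map_mul, map_mul, he, hp, p12_diag, mul_assoc, ← hp, ← map_mul, mul_inv_cancel, map_one,
      mul_one]
  rcases mul_self_eq_one_iff.1 (show a * a = 1 by linear_combination ea) with rfl | rfl <;>
    rcases mul_self_eq_one_iff.1 (show b * b = 1 by linear_combination eb) with rfl | rfl <;>
    rcases mul_self_eq_one_iff.1 ec with rfl | rfl
  all_goals first
    | exact absurd (by linear_combination hdet : (-1 : F) = 1) hne
    | exact absurd (mat_eq (by rw [hd, map_one, blk_one])) hd1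
    | (refine ⟨1, mat_eq ?_⟩; rw [hd, one_mul, inv_one, mul_one, hz]; done)
    | (refine ⟨p, mat_eq ?_⟩; rw [hd, hp1 _ _ _ z hz]; done)
    | skip
  refine ⟨w * p, mat_eq ?_⟩
  rw [hd, show w * p * z * (w * p)⁻¹ = w * (p * z * p⁻¹) * w⁻¹ by group, map_mul, map_mul,
    hp1 _ _ _ z hz, hw]
  have hwi : w⁻¹ = w := inv_eq_of_mul_eq_one_left
    (mat_eq (by rw [map_mul, map_one, hw, blk_mul, blk_eq_one]; simp))
  rw [hwi, hw, blk_mul, blk_mul, blk_inj]
  simp

/-- The central involution lies in `S`. -/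
theorem zz_mem {z : H} (hD : Data H N) (hz : mat z = blk (-1) 0 0 (-1) 1) :
    z ∈ (S : Subgroup H) := by
  have hp : IsPGroup 2 (Subgroup.zpowers z) := by
    rintro ⟨_, j, rfl⟩
    refine ⟨1, Subtype.ext ?_⟩
    show (z ^ j) ^ (2 ^ 1) = 1
    rw [pow_one, pow_two, ← (Commute.refl z).mul_zpow, hD.zz_sq hz, one_zpow]
  have hn : Subgroup.zpowers z ≤ Subgroup.normalizer ((S : Subgroup H) : Set H) := by
    rw [Subgroup.zpowers_le, Subgroup.mem_normalizer_iff]
    intro x
    constructor <;> intro hx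
    · rwa [← hD.commute_of_isBlk hz (hS x hx), mul_inv_cancel_right]
    · have := hD.commute_of_isBlk hz (hS _ hx)
      have e : z * x * z⁻¹ = x := by
        calc z * x * z⁻¹ = z⁻¹ * ((z * x * z⁻¹) * z) := by rw [this]; group
          _ = x := by group
      rwa [e] at hx
  have := S.is_maximal' (S.isPGroup'.to_sup_of_normal_left' hp hn) le_sup_left
  rw [← this]
  exact Subgroup.mem_sup_right (Subgroup.mem_zpowers z)

omit hS in
/-- `S` meets the kernel in a group with two non-commuting elements of order 4. -/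
theorem delta_mul_mem {s : H} (hs : IsBlk (mat s)) {t : H} (ht : IsBlk (mat t)) :
    mat (s * t) 2 2 = mat s 2 2 * mat t 2 2 :=
  map_mul (delta H) ⟨s, hs⟩ ⟨t, ht⟩

omit hS in
theorem delta_conj {c x : H} (hc : c ∈ blockSub H) (hx : IsBlk (mat x)) :
    mat (c * x * c⁻¹) 2 2 = mat x 2 2 := by
  have h : delta H (⟨c, hc⟩ * ⟨x, hx⟩ * ⟨c, hc⟩⁻¹) = delta H ⟨x, hx⟩ := by
    rw [map_mul, map_mul, mul_comm (delta H ⟨c, hc⟩), mul_assoc, ← map_mul, mul_inv_cancel, map_one,
      mul_one]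
  exact h

include hD in
/-- The entry `δ` of an element of `S` is a 2-element of `N`. -/
theorem delta_mem {s : H} (hs : s ∈ (S : Subgroup H)) :
    ∃ u ∈ twoPart N, (u : F) = mat s 2 2 := by
  obtain ⟨h0, h1, h2, h3⟩ := hS s hs
  obtain ⟨u, hu, he⟩ := hD.entry_mem _ s.2 2 (fun k hk => by
    fin_cases k
    · exact h0
    · exact h1
    · exact absurd rfl hk)
  refine ⟨u, ⟨hu, ?_⟩, he⟩
  obtain ⟨k, hk⟩ := S.isPGroup' ⟨s, hs⟩
  refine ⟨k, Units.ext ?_⟩
  have hk' : s ^ 2 ^ k = 1 := congrArg Subtype.val hk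
  have : delta H ⟨s, hS s hs⟩ ^ 2 ^ k = 1 := by
    rw [← map_pow, show (⟨s, hS s hs⟩ : blockSub H) ^ 2 ^ k = 1 from Subtype.ext hk', map_one]
  rw [Units.val_pow_eq_pow_val, Units.val_one, he]
  exact this

include hD in
/-- The part of `S` in the kernel is generalised quaternion. -/
theorem kernel_quaternion {z : H} (hz : mat z = blk (-1) 0 0 (-1) 1) :
    ∃ i j : H, ∃ a b : F, ∃ c ∈ blockSub H, a * a + b * b = -1 ∧
      mat i = blk 0 (-1) 1 0 1 ∧ mat j = blk a b b (-a) 1 ∧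
      c * i * c⁻¹ ∈ (S : Subgroup H) ⊓ kerSub H ∧ c * j * c⁻¹ ∈ (S : Subgroup H) ⊓ kerSub H ∧
      c * i * c⁻¹ * (c * j * c⁻¹) ≠ c * j * c⁻¹ * (c * i * c⁻¹) ∧
      ∃ n : ℕ, 1 ≤ n ∧
        Nonempty (↥((S : Subgroup H) ⊓ kerSub H) ≃* QuaternionGroup (2 ^ n)) := by
  obtain ⟨i, j, a, b, hab, hi, hj, hp⟩ := hD.exists_q8 hz
  have hzi : IsBlk (mat i) := by rw [hi]; exact isBlk_blk _ _ _ _ _
  have hzj : IsBlk (mat j) := by rw [hj]; exact isBlk_blk _ _ _ _ _
  have hle : Subgroup.zpowers i ⊔ Subgroup.zpowers j ≤ blockSub H :=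
    sup_le (Subgroup.zpowers_le.2 hzi) (Subgroup.zpowers_le.2 hzj)
  obtain ⟨c, hc, hcM⟩ := exists_conj_into S hS hp (fun g hg => hle hg)
  have hii : c * i * c⁻¹ ∈ (S : Subgroup H) := hcM i (Subgroup.mem_sup_left (Subgroup.mem_zpowers i))
  have hjj : c * j * c⁻¹ ∈ (S : Subgroup H) := hcM j (Subgroup.mem_sup_right (Subgroup.mem_zpowers j))
  have hiK : c * i * c⁻¹ ∈ kerSub H :=
    mem_kerSub.2 ⟨hS _ hii, by rw [delta_conj hc hzi, hi]; simp [blk]⟩
  have hjK : c * j * c⁻¹ ∈ kerSub H :=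
    mem_kerSub.2 ⟨hS _ hjj, by rw [delta_conj hc hzj, hj]; simp [blk]⟩
  have hij : c * i * c⁻¹ * (c * j * c⁻¹) ≠ c * j * c⁻¹ * (c * i * c⁻¹) := by
    intro h
    have h' : i * j = j * i := by
      have := congrArg (fun x => c⁻¹ * x * c) h
      simpa [mul_assoc] using this
    have h'' := congrArg mat h'
    rw [map_mul, map_mul, hi, hj, blk_mul, blk_mul, blk_inj] at h''
    obtain ⟨e1, e2, -, -, -⟩ := h''
    have hb : b = 0 := mul_left_cancel₀ hD.two_ne (by linear_combination -e1)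
    have ha : a = 0 := mul_left_cancel₀ hD.two_ne (by linear_combination e2)
    subst ha hb
    simp at hab
  refine ⟨i, j, a, b, c, hc, hab, hi, hj, ⟨hii, hiK⟩, ⟨hjj, hjK⟩, hij, ?_⟩
  set Q := (S : Subgroup H) ⊓ kerSub H
  have hQ : IsPGroup 2 Q := S.isPGroup'.to_le inf_le_left
  have hcases := PGroup.unique_order_p_cases hQ (fun x y hx hy => ?_)
  · rcases hcases with hcyc | ⟨-, n, ⟨e⟩⟩
    · haveI := hcyc
      exact absurd (congrArg Subtype.val
        ((IsCyclic.isMulCommutative (α := Q)).is_comm.comm ⟨_, hii, hiK⟩ ⟨_, hjj, hjK⟩)) hij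
    · refine ⟨n, Nat.one_le_iff_ne_zero.2 fun h0 => hij ?_, ⟨e⟩⟩
      subst h0
      have h4 : ∀ x y : QuaternionGroup (2 ^ 0), x * y = y * x := by decide
      refine congrArg Subtype.val (e.injective (?_ : e (⟨_, hii, hiK⟩ * ⟨_, hjj, hjK⟩) =
        e (⟨_, hjj, hjK⟩ * ⟨_, hii, hiK⟩)))
      rw [map_mul, map_mul, h4]
  · have hx2 : (x : H) * x = 1 := by
      have := pow_orderOf_eq_one x
      rw [hx, pow_two] at this
      exact congrArg Subtype.val this
    have hx1 : (x : H) ≠ 1 := fun h => by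
      have : x = 1 := Subtype.ext h
      rw [this, orderOf_one] at hx; omega
    have hy2 : (y : H) * y = 1 := by
      rw [pow_two] at hy
      exact congrArg Subtype.val hy
    have hxz := (hD.sq_eq_one_of_ker hz x.2.2 hx2).resolve_left hx1
    rcases hD.sq_eq_one_of_ker hz y.2.2 hy2 with h | h
    · rw [show y = 1 from Subtype.ext h]; exact one_mem _
    · rw [show y = x from Subtype.ext (h.trans hxz.symm)]; exact Subgroup.mem_zpowers x

include hD in
/-- A nontrivial closed subgroup of `S` is `S`. -/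
theorem eq_sylow_of_closed {T : Subgroup H} (hT : Closed (S : Subgroup H) T) (hT1 : T ≠ ⊥) :
    T = (S : Subgroup H) := by
  obtain ⟨z, hz⟩ := hD.exists_zz
  refine le_antisymm hT.1 ?_
  have hzS := zz_mem S hS hD hz
  -- all involutions of S lie in T
  have hzT : z ∈ T := by
    haveI : Nontrivial T := Subgroup.nontrivial_iff_ne_bot T |>.2 hT1
    obtain ⟨k, hk⟩ := IsPGroup.iff_card.1 (S.isPGroup'.to_le hT.1)
    obtain ⟨x, hx⟩ := exists_prime_orderOf_dvd_card' (G := T) 2 (by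
      rw [hk]
      refine dvd_pow_self 2 fun h0 => ?_
      have := Finite.one_lt_card (α := T)
      rw [hk, h0] at this
      omega)
    have hx2 : (x : H) * x = 1 := by
      have := pow_orderOf_eq_one x
      rw [hx, pow_two] at this
      exact congrArg Subtype.val this
    have hx1 : (x : H) ≠ 1 := fun h => by
      have : x = 1 := Subtype.ext h
      rw [this, orderOf_one] at hx; omega
    obtain ⟨g, hg⟩ := involution_conj hD hz hx2 hx1
    have hzx : g⁻¹ * x * g⁻¹⁻¹ = z := by rw [hg]; group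
    have := hT.2 x x.2 g⁻¹ (by rw [hzx]; exact hzS)
    rwa [hzx] at this
  have hinv : ∀ x ∈ (S : Subgroup H), x * x = 1 → x ∈ T := by
    intro x hx hx2
    by_cases hx1 : x = 1
    · rw [hx1]; exact one_mem T
    obtain ⟨g, hg⟩ := involution_conj hD hz hx2 hx1
    rw [hg]
    exact hT.2 z hzT g (hg ▸ hx)
  -- the monomial group
  obtain ⟨w, hw⟩ := hD.exists_swap
  obtain ⟨p, hp⟩ := hD.exists_p12
  obtain ⟨M, hM2, hwM, hMb, hMd⟩ := hD.exists_monomial hw
  obtain ⟨c, hc, hcM⟩ := exists_conj_into S hS hM2 hMb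
  have hw2 : w * w = 1 := mat_eq (by rw [map_mul, map_one, hw, blk_mul, blk_eq_one]; simp)
  have hconjinv : ∀ x ∈ M, x * x = 1 → c * x * c⁻¹ ∈ T := fun x hx hx2 =>
    hinv _ (hcM x hx) (by
      calc c * x * c⁻¹ * (c * x * c⁻¹) = c * (x * x) * c⁻¹ := by group
        _ = 1 := by rw [hx2]; group)
  -- every value of delta is attained in T
  have hdelta : ∀ u ∈ twoPart N, ∃ t ∈ T, IsBlk (mat t) ∧ mat t 2 2 = (u : F) := by
    intro u hu
    have hui := inv_mem hu
    obtain ⟨d1, hd1⟩ := hD.exists_diag (a := u⁻¹) (b := u) (c := 1) hui.1 hu.1 (one_mem N) (by simp)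
    have hd1M : d1 ∈ M := hMd _ hui _ hu d1 (by rw [hd1]; simp)
    have hA : d1 * w * (d1 * w) = 1 := mat_eq (by
      simp only [map_mul, map_one, hd1, hw, blk_mul, blk_eq_one]; simp)
    have h1 : c * d1 * c⁻¹ ∈ T := by
      have := mul_mem (hconjinv _ (mul_mem hd1M hwM) hA) (hconjinv w hwM hw2)
      convert this using 1
      calc c * d1 * c⁻¹ = c * (d1 * (w * w)) * c⁻¹ := by rw [hw2, mul_one]
        _ = _ := by group
    obtain ⟨d2, hd2⟩ := hD.exists_diag (a := u⁻¹) (b := 1) (c := u) hui.1 (one_mem N) hu.1 (by simp)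
    have hd2M : d2 ∈ M := hMd _ hui _ (one_mem _) d2 (by rw [hd2]; simp)
    have hpd : p * d1 * p⁻¹ = d2 := by
      rw [mul_inv_eq_iff_eq_mul]
      refine mat_eq ?_
      rw [map_mul, map_mul, hd1, hd2, hp, p12_diag]
    have e : c * p * c⁻¹ * (c * d1 * c⁻¹) * (c * p * c⁻¹)⁻¹ = c * d2 * c⁻¹ := by
      rw [← hpd]; group
    have h2 : c * d2 * c⁻¹ ∈ T := by
      have := hT.2 _ h1 (c * p * c⁻¹) (by rw [e]; exact hcM _ hd2M)
      rwa [e] at this
    refine ⟨_, h2, hS _ (hT.1 h2), ?_⟩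
    rw [delta_conj hc (hMb _ hd2M), hd2]
    simp [blk]
  -- the kernel part
  have hQT : (S : Subgroup H) ⊓ kerSub H ≤ T := by
    obtain ⟨i, j, a, b, -, -, -, hi, -, -, -, -, n, -, ⟨e⟩⟩ := kernel_quaternion S hD hS hz
    obtain ⟨d, hd⟩ := hD.exists_diag (a := 1) (one_mem N) hD.neg_one_mem hD.neg_one_mem (by simp)
    have hdM : d ∈ M := hMd 1 (one_mem _) (-1) (neg_one_mem_twoPart hD) d (by rw [hd]; simp)
    have hd2 : d * d = 1 := mat_eq (by simp only [map_mul, map_one, hd, blk_mul, blk_eq_one]; simp)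
    have hr : c * (w * d) * c⁻¹ ∈ T := by
      have := mul_mem (hconjinv w hwM hw2) (hconjinv d hdM hd2)
      convert this using 1
      group
    have hwd : mat (w * d) = blk (0 : F) (-1) 1 0 1 := by
      rw [map_mul, hw, hd, blk_mul, blk_inj]; simp
    have h4 : ∀ y : ↥((S : Subgroup H) ⊓ kerSub H), orderOf y = 4 → (y : H) ∈ T := by
      rintro ⟨y, hyS, hyK⟩ hy
      have hy' : orderOf y = 4 := by rwa [← Subgroup.orderOf_coe] at hy
      have hy4 : y * y * (y * y) = 1 := by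
        rw [← pow_two, ← pow_two, ← pow_mul]
        have := pow_orderOf_eq_one y
        rwa [hy'] at this
      have hyy : y * y = z := by
        refine (hD.sq_eq_one_of_ker hz (mul_mem hyK hyK) hy4).resolve_left fun h => ?_
        have := orderOf_dvd_of_pow_eq_one (pow_two y ▸ h)
        rw [hy'] at this
        exact absurd this (by decide)
      obtain ⟨g, hg, he⟩ := hD.sq_conj _ y.2 (hS y hyS) (mem_kerSub.1 hyK).2 (by
        show mat (y * y) = _
        rw [hyy, hz])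
      let g' : H := ⟨g, hg⟩
      have he' : y * g' = g' * (w * d) := mat_eq (by
        rw [map_mul, map_mul mat g', hwd]; exact he)
      have e : g' * c⁻¹ * (c * (w * d) * c⁻¹) * (g' * c⁻¹)⁻¹ = y := by
        have : y = g' * (w * d) * g'⁻¹ := eq_mul_inv_of_mul_eq he'
        rw [this]; group
      have := hT.2 _ hr (g' * c⁻¹) (by rw [e]; exact hyS)
      rwa [e] at this
    intro x hx
    have : Subgroup.closure {y : QuaternionGroup (2 ^ n) | orderOf y = 4} ≤
        (T.subgroupOf ((S : Subgroup H) ⊓ kerSub H)).map e.toMonoidHom := by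
      rw [Subgroup.closure_le]
      intro y hy
      exact ⟨e.symm y, h4 _ (by rw [e.symm.orderOf_eq]; exact hy), e.apply_symm_apply y⟩
    rw [quaternion_closure_order_four] at this
    obtain ⟨y, hy, hyx⟩ := this (Subgroup.mem_top (e ⟨x, hx⟩))
    have := congrArg Subtype.val (e.injective hyx)
    subst this
    exact hy
  intro s hs
  obtain ⟨u, hu, hus⟩ := delta_mem S hD hS hs
  obtain ⟨t, ht, htb, htu⟩ := hdelta u⁻¹ (inv_mem hu)
  have hq : s * t ∈ (S : Subgroup H) ⊓ kerSub H := by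
    refine ⟨mul_mem hs (hT.1 ht), mem_kerSub.2 ⟨hS _ (mul_mem hs (hT.1 ht)), ?_⟩⟩
    rw [delta_mul_mem (hS s hs) htb, htu, ← hus]
    simp
  simpa using mul_mem (hQT hq) (inv_mem ht)

end Data

end Cfsg.Agent.Fusion3
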