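import Cfsg.Agent.Lib.Fusion3.Simple

/-
Main result (namespace `Cfsg.Agent.Fusion3`): `isSimple_mulEquiv`, simplicity of the fusion
systems of Sylow subgroups transported along an isomorphism of groups.
-/

set_option autoImplicit false

namespace Cfsg.Agent.Fusion3

open Cfsg Cfsg.FusionSystem

/-- Simplicity of all Sylow fusion systems passes along isomorphisms. -/
theorem isSimple_mulEquiv {G G' : Type*} [Group G] [Group G'] [Finite G] {p : ℕ} [Fact p.Prime]
    (e : G ≃* G') (hsimple : ∀ S : Sylow p G, (groupFusionSystem (S : Subgroup G)).IsSimple p)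
    (T : Sylow p G') : (groupFusionSystem (T : Subgroup G')).IsSimple p := by
  have hsurj : Function.Surjective e.toMonoidHom := e.surjective
  obtain ⟨S, rfl⟩ := Sylow.mapSurjective_surjective hsurj p T
  have hι : (groupFusionSystem (S : Subgroup G)).IsRealizedBy
      (e.toMonoidHom.comp (S : Subgroup G).subtype) := by
    refine ⟨e.injective.comp (Subgroup.subtype_injective _), fun P hP φ hφ => ⟨?_, ?_⟩⟩
    · rintro ⟨-, -, g, hg⟩
      refine ⟨e g, fun x => ?_⟩
      show e (φ x) = e g * e x * (e g)⁻¹
      rw [hg, map_mul, map_mul, map_inv]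
    · rintro ⟨g, hg⟩
      refine ⟨hP, hφ, e.symm g, fun x => e.injective ?_⟩
      have := hg x
      simp only [map_mul, map_inv, e.apply_symm_apply]
      exact this
  have h2 := (FusionIso.ofRealized hι).isSimple (hsimple S)
  rw [MonoidHom.range_comp, Subgroup.range_subtype] at h2
  rw [Sylow.coe_mapSurjective]
  exact h2

end Cfsg.Agent.Fusion3
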