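import Cfsg.Agent.Lib.Fusion3.Mat

/-
The special linear group satisfies `Data`.
Main results (namespace `Cfsg.Agent.Fusion3`): `exists_sq_add_sq`, `plusSpace`/`minusSpace`,
`isCompl_spaces`, `exists_eigenbasis`, `conj_rot_of_vec`, `data_sl`.
-/

set_option autoImplicit false

namespace Cfsg.Agent.Fusion3

open Matrix

/-- In a finite field of odd order every element is a sum of two squares. -/
theorem exists_sq_add_sq {K : Type*} [Field K] [Finite K] (hodd : Nat.card K % 2 = 1) (c : K) :
    ∃ a b : K, a * a + b * b = c := by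
  haveI : Fintype K := Fintype.ofFinite K
  obtain ⟨a, b, h⟩ := FiniteField.exists_root_sum_quadratic (f := Polynomial.X ^ 2)
    (g := Polynomial.X ^ 2 - Polynomial.C c) (Polynomial.degree_X_pow 2)
    (Polynomial.degree_X_pow_sub_C (by norm_num) c) (by rwa [← Nat.card_eq_fintype_card])
  refine ⟨a, b, ?_⟩
  simp only [Polynomial.eval_pow, Polynomial.eval_X, Polynomial.eval_sub, Polynomial.eval_C] at h
  linear_combination h

theorem two_ne_zero_of_odd {K : Type*} [Field K] [Fintype K] (hodd : Fintype.card K % 2 = 1) :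
    (2 : K) ≠ 0 := by
  refine Ring.two_ne_zero fun h => ?_
  have := FiniteField.even_card_iff_char_two.1 h
  omega

variable {F : Type*} [Field F]

/-- Fixed vectors of a matrix. -/
def plusSpace (M : Matrix (Fin 3) (Fin 3) F) : Submodule F (Fin 3 → F) :=
  LinearMap.ker (M.mulVecLin - LinearMap.id)

/-- Negated vectors of a matrix. -/
def minusSpace (M : Matrix (Fin 3) (Fin 3) F) : Submodule F (Fin 3 → F) :=
  LinearMap.ker (M.mulVecLin + LinearMap.id)

theorem mem_plusSpace {M : Matrix (Fin 3) (Fin 3) F} {v : Fin 3 → F} :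
    v ∈ plusSpace M ↔ M *ᵥ v = v := by simp [plusSpace, sub_eq_zero]

theorem mem_minusSpace {M : Matrix (Fin 3) (Fin 3) F} {v : Fin 3 → F} :
    v ∈ minusSpace M ↔ M *ᵥ v = -v := by simp [minusSpace, add_eq_zero_iff_eq_neg]

theorem isCompl_spaces (h2 : (2 : F) ≠ 0) {M : Matrix (Fin 3) (Fin 3) F} (hM : M * M = 1) :
    IsCompl (plusSpace M) (minusSpace M) := by
  constructor
  · rw [Submodule.disjoint_def]
    intro v hv hv'
    rw [mem_plusSpace] at hv
    rw [mem_minusSpace, hv] at hv'
    funext i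
    have := congrFun hv' i
    exact mul_left_cancel₀ h2 (by simp only [Pi.neg_apply, Pi.zero_apply] at this ⊢; linear_combination this)
  · rw [codisjoint_iff, eq_top_iff]
    intro v _
    have hMv : M *ᵥ (M *ᵥ v) = v := by rw [mulVec_mulVec, hM, one_mulVec]
    refine Submodule.mem_sup.2 ⟨(2 : F)⁻¹ • (v + M *ᵥ v), ?_, (2 : F)⁻¹ • (v - M *ᵥ v), ?_, ?_⟩
    · rw [mem_plusSpace, mulVec_smul, mulVec_add, hMv, add_comm]
    · rw [mem_minusSpace, mulVec_smul, mulVec_sub, hMv, ← smul_neg, neg_sub]
    · rw [← smul_add, add_add_sub_cancel, ← two_smul F v, smul_smul, inv_mul_cancel₀ h2, one_smul]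

/-- An involutory matrix has a basis of eigenvectors. -/
theorem exists_eigenbasis (h2 : (2 : F) ≠ 0) {M : Matrix (Fin 3) (Fin 3) F} (hM : M * M = 1) :
    ∃ (b : Module.Basis (Fin 3) F (Fin 3 → F)) (ε : Fin 3 → F), ∀ i, M *ᵥ b i = ε i • b i := by
  have hc := isCompl_spaces h2 hM
  let B := ((Module.finBasis F (plusSpace M)).prod (Module.finBasis F (minusSpace M))).map
    (Submodule.prodEquivOfIsCompl _ _ hc)
  let e := B.indexEquiv (Pi.basisFun F (Fin 3))
  refine ⟨B.reindex e, fun i => Sum.elim (fun _ => 1) (fun _ => -1) (e.symm i), fun i => ?_⟩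
  rw [Module.Basis.reindex_apply]
  beta_reduce
  generalize e.symm i = t
  rcases t with s | s
  · have hs : B (Sum.inl s) = (Module.finBasis F (plusSpace M) s : Fin 3 → F) := by simp [B]
    rw [hs]
    simpa using mem_plusSpace.1 (Module.finBasis F (plusSpace M) s).2
  · have hs : B (Sum.inr s) = (Module.finBasis F (minusSpace M) s : Fin 3 → F) := by simp [B]
    rw [hs]
    simpa using mem_minusSpace.1 (Module.finBasis F (minusSpace M) s).2

/-- The matrix with given columns. -/
def colMat (v : Fin 3 → Fin 3 → F) : Matrix (Fin 3) (Fin 3) F := (Matrix.of v)ᵀ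

theorem mul_colMat {M : Matrix (Fin 3) (Fin 3) F} {v : Fin 3 → Fin 3 → F} {ε : Fin 3 → F}
    (h : ∀ i, M *ᵥ v i = ε i • v i) :
    M * colMat v = colMat v * blk (ε 0) 0 0 (ε 1) (ε 2) := by
  have hd : blk (ε 0) 0 0 (ε 1) (ε 2) = Matrix.diagonal ε := by
    ext i j; fin_cases i <;> fin_cases j <;> simp [blk]
  rw [hd]
  ext i j
  rw [Matrix.mul_diagonal]
  show (M *ᵥ v j) i = _
  rw [h j]
  simp [colMat, mul_comm]

/-- The matrix conjugating `rot` to a block element `y` from a vector `(p, r)`. -/
theorem conj_rot_of_vec {a b c d p r e : F} (h1 : a * a + b * c = -1) (h2 : b * (a + d) = 0)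
    (h3 : c * (a + d) = 0) (h4 : c * b + d * d = -1) :
    blk a b c d 1 * blk p (a * p + b * r) r (c * p + d * r) e =
      blk p (a * p + b * r) r (c * p + d * r) e * blk 0 (-1) 1 0 1 := by
  rw [blk_mul, blk_mul, blk_inj]
  refine ⟨by ring, ?_, by ring, ?_, by ring⟩
  · linear_combination p * h1 + r * h2
  · linear_combination p * h3 + r * h4

/-- The relations satisfied by a block element squaring to the central involution. -/
theorem sq_relations {y : Matrix.SpecialLinearGroup (Fin 3) F}
    (hy : IsBlk (y : Matrix (Fin 3) (Fin 3) F)) (h22 : (y : Matrix (Fin 3) (Fin 3) F) 2 2 = 1)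
    (hsq : ((y * y : Matrix.SpecialLinearGroup (Fin 3) F) : Matrix (Fin 3) (Fin 3) F)
      = blk (-1) 0 0 (-1) 1) :
    ∃ a b c d, (y : Matrix (Fin 3) (Fin 3) F) = blk a b c d 1 ∧ a * a + b * c = -1 ∧
      b * (a + d) = 0 ∧ c * (a + d) = 0 ∧ c * b + d * d = -1 ∧ a * d - b * c = 1 := by
  obtain ⟨a, b, c, d, e, he⟩ := hy.exists_eq
  have h1 : e = 1 := by rw [he] at h22; simpa [blk] using h22
  subst h1
  rw [Matrix.SpecialLinearGroup.coe_mul, he, blk_mul, blk_inj] at hsq
  obtain ⟨e1, e2, e3, e4, -⟩ := hsq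
  have hdet := y.2
  rw [he, det_blk, mul_one] at hdet
  exact ⟨a, b, c, d, he, e1, by linear_combination e2, by linear_combination e3, e4, hdet⟩

variable [Fintype F]

/-- `SL₃` in odd characteristic satisfies `Data`. -/
theorem data_sl (hodd : Fintype.card F % 2 = 1) :
    Data (⊤ : Subgroup (Matrix.SpecialLinearGroup (Fin 3) F)) ⊤ := by
  have h2 := two_ne_zero_of_odd hodd
  refine
    { two_ne := h2, neg_one_mem := trivial, diag_mem := fun _ _ _ _ _ _ _ _ => trivial,
      entry_mem := ?_, swap_mem := fun _ _ => trivial, p12_mem := fun _ _ => trivial,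
      quat := ?_, diagonalizable := ?_, sq_conj := ?_ }
  · intro g _ i hi
    refine ⟨Units.mk0 _ fun h0 => ?_, trivial, rfl⟩
    have hz : (g : Matrix (Fin 3) (Fin 3) F).det = 0 :=
      Matrix.det_eq_zero_of_column_eq_zero i fun k => by
        by_cases hk : k = i
        · rw [hk]; exact h0
        · exact hi k hk
    rw [g.2] at hz
    exact one_ne_zero hz
  · obtain ⟨a, b, hab⟩ := exists_sq_add_sq (by rwa [Nat.card_eq_fintype_card]) (-1 : F)
    exact ⟨a, b, hab, fun _ _ => trivial⟩
  · intro x _ hx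
    obtain ⟨B, ε, hB⟩ := exists_eigenbasis h2 (congrArg Subtype.val hx)
    have hd : (colMat B).det ≠ 0 := by
      rw [colMat, Matrix.det_transpose]
      intro h0
      have hli := B.linearIndependent
      exact ((Matrix.isUnit_iff_isUnit_det _).1
        ((Matrix.linearIndependent_rows_iff_isUnit (A := Matrix.of B)).1 hli)).ne_zero h0
    set D := (colMat B).det
    let v : Fin 3 → Fin 3 → F := fun i => (if i = 0 then D⁻¹ else 1) • B i
    have hv : ∀ i, (x : Matrix (Fin 3) (Fin 3) F) *ᵥ v i = ε i • v i := fun i => by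
      simp only [v, mulVec_smul, hB i, smul_comm (ε i)]
    have hdet : (colMat v).det = 1 := by
      have e : colMat v = colMat B * blk D⁻¹ 0 0 1 1 := by
        ext i j
        fin_cases i <;> fin_cases j <;>
          simp [colMat, v, blk, Matrix.mul_apply, Fin.sum_univ_three, mul_comm]
      rw [e, Matrix.det_mul, det_blk]
      field_simp
      ring
    exact ⟨⟨colMat v, hdet⟩, trivial, _, _, _, mul_colMat hv⟩
  · intro y _ hy h22 hsq
    obtain ⟨a, b, c, d, he, e1, e2, e3, e4, hdet⟩ := sq_relations hy h22 hsq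
    obtain ⟨p, r, hne⟩ : ∃ p r, p * (c * p + d * r) - (a * p + b * r) * r ≠ 0 := by
      by_contra hcon
      push Not at hcon
      have hc0 : c = 0 := by linear_combination hcon 1 0
      have hb0 : b = 0 := by linear_combination -(hcon 0 1)
      have hda : d = a := by linear_combination hcon 1 1 - hc0 + hb0
      subst hc0 hb0 hda
      exact h2 (by linear_combination e1 - hdet)
    refine ⟨⟨blk p (a * p + b * r) r (c * p + d * r)
      (p * (c * p + d * r) - (a * p + b * r) * r)⁻¹, ?_⟩, trivial, ?_⟩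
    · rw [det_blk]; exact mul_inv_cancel₀ hne
    · rw [he]; exact conj_rot_of_vec e1 e2 e3 e4

end Cfsg.Agent.Fusion3
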