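import Cfsg.Agent.Lib.Fusion3.Auto
import Cfsg.Agent.Lib.Fusion.Group
import Cfsg.Agent.Lib.FusionIso.Simple
import Cfsg.Agent.Lib.FusionIso.Realize
import Cfsg.Agent.S5339

/-
Simplicity of 2-fusion systems of 3-dimensional groups.
Main results (namespace `Cfsg.Agent.Fusion3`): `isSimple_of_data`, `isSimple_quotient`.
-/

set_option autoImplicit false

namespace Cfsg.Agent.Fusion3

open Cfsg Cfsg.FusionSystem Cfsg.Agent.Fusion

/-- Simplicity passes to a quotient by a normal subgroup of order prime to `p`. -/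
theorem isSimple_quotient {G : Type*} [Group G] [Finite G] {p : ℕ} [Fact p.Prime]
    (K : Subgroup G) [K.Normal] (hK : (Nat.card K).Coprime p)
    (hsimple : ∀ S : Sylow p G, (groupFusionSystem (S : Subgroup G)).IsSimple p)
    (T : Sylow p (G ⧸ K)) : (groupFusionSystem (T : Subgroup (G ⧸ K))).IsSimple p := by
  obtain ⟨S, rfl⟩ := Sylow.mapSurjective_surjective (QuotientGroup.mk'_surjective K) p T
  have hι : (groupFusionSystem (S : Subgroup G)).IsRealizedBy (S : Subgroup G).subtype :=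
    ⟨Subgroup.subtype_injective _, fun P hP φ hφ =>
      ⟨fun h => h.2.2, fun h => ⟨hP, hφ, h⟩⟩⟩
  have h := FusionIso.isRealizedBy_quotient S.isPGroup' hι hK
  have h2 := (FusionIso.ofRealized h).isSimple (hsimple S)
  rw [MonoidHom.range_comp, Subgroup.range_subtype] at h2
  rw [Sylow.coe_mapSurjective]
  exact h2

variable {F : Type*} [Field F] [Finite F]
variable {H : Subgroup (Matrix.SpecialLinearGroup (Fin 3) F)} {N : Subgroup Fˣ}

namespace Data

variable (hD : Data H N)
include hD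

/-- The central involution is in some Sylow subgroup, so Sylow subgroups are nontrivial. -/
theorem sylow_ne_bot (S : Sylow 2 H) : (S : Subgroup H) ≠ ⊥ := by
  intro h
  obtain ⟨z, hz⟩ := hD.exists_zz
  obtain ⟨k, hk⟩ := IsPGroup.iff_card.1 (S.isPGroup')
  have hc : Nat.card (S : Subgroup H) = 1 := by rw [h]; exact Subgroup.card_bot
  have h2 : 2 ∣ (S : Subgroup H).index := by
    have hd : orderOf z ∣ Nat.card H := orderOf_dvd_natCard z
    have ho : orderOf z = 2 := orderOf_eq_prime (by rw [pow_two]; exact hD.zz_sq hz) (hD.zz_ne hz)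
    rw [ho, ← Subgroup.card_mul_index (S : Subgroup H), hc, one_mul] at hd
    exact hd
  exact S.not_dvd_index' (Subgroup.index_ne_zero_of_finite) h2

/-- Every Sylow 2-subgroup is conjugate into the block subgroup. -/
theorem exists_conj_blk (S : Sylow 2 H) :
    ∃ h : H, ∀ x ∈ (S : Subgroup H), IsBlk (mat (h * x * h⁻¹)) := by
  obtain ⟨z, hz⟩ := hD.exists_zz
  haveI : Nontrivial (S : Subgroup H) := (Subgroup.nontrivial_iff_ne_bot _).2 (hD.sylow_ne_bot S)
  haveI : Nontrivial (Subgroup.center (S : Subgroup H)) := S.isPGroup'.center_nontrivial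
  obtain ⟨k, hk⟩ := IsPGroup.iff_card.1 (S.isPGroup'.to_subgroup (Subgroup.center (S : Subgroup H)))
  obtain ⟨u, hu⟩ := exists_prime_orderOf_dvd_card' (G := Subgroup.center (S : Subgroup H)) 2 (by
    rw [hk]
    refine dvd_pow_self 2 fun h0 => ?_
    have := Finite.one_lt_card (α := Subgroup.center (S : Subgroup H))
    rw [hk, h0] at this
    omega)
  have hu2 : ((u : (S : Subgroup H)) : H) * ((u : (S : Subgroup H)) : H) = 1 := by
    have := pow_orderOf_eq_one u
    rw [hu, pow_two] at this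
    exact congrArg (fun v => (((v : Subgroup.center (S : Subgroup H)) : (S : Subgroup H)) : H)) this
  have hu1 : ((u : (S : Subgroup H)) : H) ≠ 1 := fun h => by
    have : u = 1 := Subtype.ext (Subtype.ext h)
    rw [this, orderOf_one] at hu; omega
  obtain ⟨g, hg⟩ := involution_conj hD hz hu2 hu1
  refine ⟨g⁻¹, fun x hx => hD.isBlk_of_commute hz ?_⟩
  have hc : x * ((u : (S : Subgroup H)) : H) = ((u : (S : Subgroup H)) : H) * x :=
    congrArg Subtype.val (Subgroup.mem_center_iff.1 u.2 ⟨x, hx⟩)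
  have hz' : z = g⁻¹ * ((u : (S : Subgroup H)) : H) * g := by rw [hg]; group
  rw [hz']
  calc g⁻¹ * x * g⁻¹⁻¹ * (g⁻¹ * ((u : (S : Subgroup H)) : H) * g)
      = g⁻¹ * (x * ((u : (S : Subgroup H)) : H)) * g := by group
    _ = g⁻¹ * (((u : (S : Subgroup H)) : H) * x) * g := by rw [hc]
    _ = _ := by group

/-- The strongly closed subgroups of `S`. -/
theorem closed_eq (S : Sylow 2 H) {T : Subgroup H} (hT : Closed (S : Subgroup H) T) :
    T = ⊥ ∨ T = (S : Subgroup H) := by
  by_cases hT1 : T = ⊥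
  · exact Or.inl hT1
  right
  obtain ⟨h, hh⟩ := hD.exists_conj_blk S
  let S' : Sylow 2 H := MulAut.conj h • S
  set f := (MulAut.conj h).toMonoidHom with hf
  have hS'coe : (S' : Subgroup H) = (S : Subgroup H).map f := rfl
  have hS' : ∀ x ∈ (S' : Subgroup H), IsBlk (mat x) := by
    rw [hS'coe]
    rintro _ ⟨x, hx, rfl⟩
    exact hh x hx
  have hfinj : Function.Injective f := (MulAut.conj h).injective
  have hT' : Closed (S' : Subgroup H) (T.map f) := by
    refine ⟨hS'coe ▸ Subgroup.map_mono hT.1, ?_⟩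
    rintro _ ⟨x, hx, rfl⟩ g hgx
    rw [hS'coe] at hgx
    obtain ⟨y, hy, hye⟩ := hgx
    have he : (h⁻¹ * g * h) * x * (h⁻¹ * g * h)⁻¹ = y := by
      have : h * y * h⁻¹ = g * (h * x * h⁻¹) * g⁻¹ := hye
      calc (h⁻¹ * g * h) * x * (h⁻¹ * g * h)⁻¹ = h⁻¹ * (g * (h * x * h⁻¹) * g⁻¹) * h := by group
        _ = y := by rw [← this]; group
    refine ⟨y, ?_, hye⟩
    rw [← he]
    exact hT.2 x hx _ (he ▸ hy)
  have h1 : T.map f ≠ ⊥ := fun e =>
    hT1 ((Subgroup.map_eq_bot_iff_of_injective T hfinj).1 e)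
  exact Subgroup.map_injective hfinj ((eq_sylow_of_closed S' hD hS' hT' h1).trans hS'coe)

/-- Odd order elements normalising `S` centralise it. -/
theorem centralizes (S : Sylow 2 H) {g : H} (hgo : Odd (orderOf g))
    (hg : ∀ x ∈ (S : Subgroup H), g * x * g⁻¹ ∈ (S : Subgroup H)) :
    ∀ x ∈ (S : Subgroup H), g * x * g⁻¹ = x := by
  obtain ⟨h, hh⟩ := hD.exists_conj_blk S
  let S' : Sylow 2 H := MulAut.conj h • S
  have hS'coe : (S' : Subgroup H) = (S : Subgroup H).map (MulAut.conj h).toMonoidHom := rfl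
  have hS' : ∀ x ∈ (S' : Subgroup H), IsBlk (mat x) := by
    rw [hS'coe]
    rintro _ ⟨x, hx, rfl⟩
    exact hh x hx
  intro x hx
  have hgo' : Odd (orderOf (h * g * h⁻¹)) := by
    have e : orderOf (h * g * h⁻¹) = orderOf g := by
      have := orderOf_injective (MulAut.conj h).toMonoidHom (MulAut.conj h).injective g
      simpa using this
    rwa [e]
  have := centralizes_of_odd S' hD hS' hgo' (fun y hy => by
    rw [hS'coe] at hy ⊢
    obtain ⟨w, hw, rfl⟩ := hy
    refine ⟨g * w * g⁻¹, hg w hw, ?_⟩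
    show h * (g * w * g⁻¹) * h⁻¹ = h * g * h⁻¹ * (h * w * h⁻¹) * (h * g * h⁻¹)⁻¹
    group) (h * x * h⁻¹) (hS'coe ▸ ⟨x, hx, rfl⟩)
  calc g * x * g⁻¹ = h⁻¹ * (h * g * h⁻¹ * (h * x * h⁻¹) * (h * g * h⁻¹)⁻¹) * h := by group
    _ = x := by rw [this]; group

/-- The 2-fusion system of a group with `Data` is simple. -/
theorem isSimple (S : Sylow 2 H) : (groupFusionSystem (S : Subgroup H)).IsSimple 2 := by
  refine S5339.result 2 S.isPGroup' _ (isSaturated_group S) (hD.sylow_ne_bot S) ?_ ?_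
  · rw [autGroup_group le_rfl]
    ext α
    rw [mem_autInducedBy_iff]
    constructor
    · rintro ⟨g, -, hg⟩
      obtain ⟨k, m, hm, hkm⟩ := Nat.exists_eq_two_pow_mul_odd (orderOf_pos g).ne'
      have hcop : IsCoprime ((2 ^ k : ℕ) : ℤ) (m : ℤ) :=
        Nat.Coprime.isCoprime ((Nat.coprime_two_left.2 hm).pow_left k)
      obtain ⟨a, b, hab⟩ := hcop
      have hnorm : g ∈ Subgroup.normalizer ((S : Subgroup H) : Set H) := by
        rw [Subgroup.mem_normalizer_iff]
        intro x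
        refine ⟨fun hx => by rw [← hg ⟨x, hx⟩]; exact (α ⟨x, hx⟩).2, fun hx => ?_⟩
        obtain ⟨y, hy⟩ := α.surjective ⟨_, hx⟩
        have h1 := hg y
        rw [hy] at h1
        have : x = (y : H) := by simpa using h1
        exact this ▸ y.2
      have h1 : g ^ ((m : ℤ) * b) ∈ (S : Subgroup H) := by
        have hp : IsPGroup 2 (Subgroup.zpowers (g ^ ((m : ℤ) * b))) := by
          rintro ⟨_, j, rfl⟩
          refine ⟨k, Subtype.ext ?_⟩
          show ((g ^ ((m : ℤ) * b)) ^ j) ^ (2 ^ k) = 1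
          rw [← zpow_natCast, ← zpow_mul, ← zpow_mul,
            show (m : ℤ) * b * (j * ((2 ^ k : ℕ) : ℤ)) = ((2 ^ k * m : ℕ) : ℤ) * (b * j) by
              push_cast; ring,
            zpow_mul, zpow_natCast, ← hkm, pow_orderOf_eq_one, one_zpow]
        have := S.is_maximal' (S.isPGroup'.to_sup_of_normal_left' hp
          (Subgroup.zpowers_le.2 (zpow_mem hnorm _))) le_sup_left
        rw [← this]
        exact Subgroup.mem_sup_right (Subgroup.mem_zpowers _)
      have h2 : ∀ x ∈ (S : Subgroup H),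
          g ^ (((2 ^ k : ℕ) : ℤ) * a) * x * (g ^ (((2 ^ k : ℕ) : ℤ) * a))⁻¹ = x := by
        refine hD.centralizes S ?_ ?_
        · refine hm.of_dvd_nat (orderOf_dvd_of_pow_eq_one ?_)
          rw [← zpow_natCast, ← zpow_mul,
            show ((2 ^ k : ℕ) : ℤ) * a * m = ((2 ^ k * m : ℕ) : ℤ) * a by push_cast; ring,
            zpow_mul, zpow_natCast, ← hkm, pow_orderOf_eq_one, one_zpow]
        · intro x hx
          exact (Subgroup.mem_normalizer_iff.1 (zpow_mem hnorm _) x).1 hx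
      refine ⟨⟨_, h1⟩, MulEquiv.ext fun x => Subtype.ext ?_⟩
      show g ^ ((m : ℤ) * b) * x * (g ^ ((m : ℤ) * b))⁻¹ = (α x : H)
      rw [hg x]
      conv_rhs => rw [← zpow_one g, ← hab, add_comm, mul_comm a, mul_comm b, zpow_add]
      calc _ = g ^ ((m : ℤ) * b) * (g ^ (((2 ^ k : ℕ) : ℤ) * a) * x *
            (g ^ (((2 ^ k : ℕ) : ℤ) * a))⁻¹) * (g ^ ((m : ℤ) * b))⁻¹ := by rw [h2 x x.2]
        _ = _ := by group
    · rintro ⟨s, rfl⟩
      exact ⟨s, trivial, fun x => rfl⟩
  · intro T hT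
    refine hD.closed_eq S ⟨hT.1, fun x hx g hgx => ?_⟩
    have hle : Subgroup.zpowers x ≤ T := Subgroup.zpowers_le.2 hx
    have hmem : conjHom (Subgroup.zpowers x) g ∈
        (groupFusionSystem (S : Subgroup H)).Hom (Subgroup.zpowers x) := by
      refine ⟨hle.trans hT.1, fun y => ?_, g, fun y => rfl⟩
      obtain ⟨j, hj⟩ := Subgroup.mem_zpowers_iff.1 y.2
      show g * (y : H) * g⁻¹ ∈ _
      rw [← hj, ← conj_zpow]
      exact zpow_mem hgx j
    exact hT.2 _ hle _ hmem ⟨x, Subgroup.mem_zpowers x⟩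

end Data

end Cfsg.Agent.Fusion3
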