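import Cfsg.Agent.Lib.Fusion3.Mat

/-
Elements and 2-subgroups of the block subgroup.
Main results (namespace `Cfsg.Agent.Fusion3`): `blockSub` (centraliser of the central involution),
`delta` (the bottom right entry as a hom), `kerSub`, `sq_eq_one_of_ker` (unique involution),
`exists_monomial` (a monomial 2-group), `exists_q8` (a quaternion 2-group).
-/

set_option autoImplicit false

namespace Cfsg.Agent.Fusion3

variable {F : Type*} [Field F]
variable {H : Subgroup (Matrix.SpecialLinearGroup (Fin 3) F)} {N : Subgroup Fˣ}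

/-- The block subgroup. -/
def blockSub (H : Subgroup (Matrix.SpecialLinearGroup (Fin 3) F)) [Finite H] : Subgroup H :=
  subgroupOfSubmonoid
    { carrier := {g : H | IsBlk (mat g)}
      one_mem' := by
        show IsBlk (mat (1 : H))
        rw [map_one, ← blk_one]; exact isBlk_blk _ _ _ _ _
      mul_mem' := fun {a b} ha hb => by
        show IsBlk (mat (a * b))
        rw [map_mul]; exact IsBlk.mul ha hb }
where
  subgroupOfSubmonoid (M : Submonoid H) : Subgroup H :=
    { M with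
      inv_mem' := fun {x} hx => by
        show x⁻¹ ∈ M
        have : x⁻¹ = x ^ (orderOf x - 1) := by
          rw [inv_eq_iff_mul_eq_one, ← pow_succ', Nat.sub_add_cancel (orderOf_pos x),
            pow_orderOf_eq_one]
        rw [this]
        exact pow_mem hx _ }

variable [Finite H]

theorem mem_blockSub {g : H} : g ∈ blockSub H ↔ IsBlk (mat g) := Iff.rfl

/-- The bottom right entry, multiplicative on the block subgroup. -/
def delta (H : Subgroup (Matrix.SpecialLinearGroup (Fin 3) F)) [Finite H] : blockSub H →* F where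
  toFun g := mat (g : H) 2 2
  map_one' := by simp
  map_mul' g h := by
    have h1 := (mem_blockSub.1 g.2).eq_blk
    have h2 := (mem_blockSub.1 h.2).eq_blk
    show mat ((g : H) * (h : H)) 2 2 = _
    rw [map_mul, h1, h2, blk_mul]
    simp [blk]

theorem delta_apply (g : blockSub H) : delta H g = mat (g : H) 2 2 := rfl

/-- The block elements with bottom right entry 1. -/
def kerSub (H : Subgroup (Matrix.SpecialLinearGroup (Fin 3) F)) [Finite H] : Subgroup H :=
  ((delta H).toHomUnits.ker).map (blockSub H).subtype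

theorem mem_kerSub {g : H} : g ∈ kerSub H ↔ IsBlk (mat g) ∧ mat g 2 2 = 1 := by
  constructor
  · rintro ⟨x, hx, rfl⟩
    exact ⟨mem_blockSub.1 x.2, by simpa [delta_apply] using congrArg Units.val hx⟩
  · rintro ⟨h1, h2⟩
    exact ⟨⟨g, h1⟩, Units.ext h2, rfl⟩

theorem kerSub_le : kerSub H ≤ blockSub H := Subgroup.map_subtype_le _

theorem exists_of_mem_kerSub {g : H} (hg : g ∈ kerSub H) :
    ∃ a b c d, mat g = blk a b c d 1 ∧ a * d - b * c = 1 := by
  obtain ⟨h1, h2⟩ := mem_kerSub.1 hg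
  obtain ⟨a, b, c, d, e, he⟩ := h1.exists_eq
  have h3 : e = 1 := by rw [he] at h2; simpa [blk] using h2
  subst h3
  refine ⟨a, b, c, d, he, ?_⟩
  have := det_mat g
  rwa [he, det_blk, mul_one] at this

namespace Data

variable (hD : Data H N)
include hD

/-- The kernel has a single involution. -/
theorem sq_eq_one_of_ker {z g : H} (hz : mat z = blk (-1) 0 0 (-1) 1) (hg : g ∈ kerSub H)
    (h2 : g * g = 1) : g = 1 ∨ g = z := by
  obtain ⟨a, b, c, d, he, hdet⟩ := exists_of_mem_kerSub hg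
  have h := congrArg mat h2
  rw [map_mul, map_one, he, blk_mul, blk_eq_one] at h
  obtain ⟨e1, e2, e3, e4, -⟩ := h
  have t : a + d ≠ 0 := fun t0 => hD.two_ne (by linear_combination -e1 - hdet + a * t0)
  have hb : b = 0 := by
    have : b * (a + d) = 0 := by linear_combination e2
    exact (mul_eq_zero.1 this).resolve_right t
  have hc : c = 0 := by
    have : c * (a + d) = 0 := by linear_combination e3
    exact (mul_eq_zero.1 this).resolve_right t
  subst hb hc
  have had : d = a := mul_left_cancel₀ (show a ≠ 0 from fun h0 => by simp [h0] at hdet)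
    (by linear_combination hdet - e1)
  subst had
  rcases mul_self_eq_one_iff.1 (show d * d = 1 by linear_combination e1) with rfl | rfl
  · exact Or.inl (mat_eq (by rw [he, map_one, blk_one]))
  · exact Or.inr (mat_eq (by rw [he, hz]))

/-- The zz element lies in the kernel. -/
theorem zz_mem_kerSub {z : H} (hz : mat z = blk (-1) 0 0 (-1) 1) : z ∈ kerSub H := by
  rw [mem_kerSub, hz]; exact ⟨isBlk_blk _ _ _ _ _, by simp [blk]⟩

omit [Finite H] in
theorem zz_sq {z : H} (hz : mat z = blk (-1) 0 0 (-1) 1) : z * z = 1 :=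
  mat_eq (by rw [map_mul, map_one, hz, blk_mul, blk_eq_one]; simp)

omit [Finite H] in
theorem zz_ne {z : H} (hz : mat z = blk (-1) 0 0 (-1) 1) : z ≠ 1 := fun h => by
  rw [h, map_one, ← blk_one, blk_inj] at hz
  exact hD.neg_one_ne_one hz.1.symm

end Data

/-- The 2-part of `N`. -/
def twoPart (N : Subgroup Fˣ) : Subgroup Fˣ where
  carrier := {u | u ∈ N ∧ ∃ k : ℕ, u ^ 2 ^ k = 1}
  one_mem' := ⟨one_mem N, 0, by simp⟩
  mul_mem' := fun {u v} ⟨hu, k, hk⟩ ⟨hv, l, hl⟩ => ⟨mul_mem hu hv, k + l, by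
    rw [mul_pow]
    conv_lhs => arg 1; rw [pow_add, pow_mul, hk, one_pow]
    conv_lhs => arg 2; rw [pow_add, mul_comm, pow_mul, hl, one_pow]
    rw [one_mul]⟩
  inv_mem' := fun {u} ⟨hu, k, hk⟩ => ⟨inv_mem hu, k, by rw [inv_pow, hk, inv_one]⟩

omit [Finite H] in
theorem isPGroup_twoPart : IsPGroup 2 (twoPart N) := fun u => by
  obtain ⟨-, k, hk⟩ := u.2
  exact ⟨k, Subtype.ext hk⟩

omit [Finite H] in
theorem neg_one_mem_twoPart (hD : Data H N) : (-1 : Fˣ) ∈ twoPart N :=
  ⟨hD.neg_one_mem, 1, by simp⟩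

namespace Data

variable (hD : Data H N)
include hD

omit [Finite H] in
/-- A 2-group of monomial block elements. -/
theorem exists_monomial {w : H} (hw : mat w = blk 0 1 1 0 (-1)) :
    ∃ M : Subgroup H, IsPGroup 2 M ∧ w ∈ M ∧ (∀ g ∈ M, IsBlk (mat g)) ∧
      ∀ a ∈ twoPart N, ∀ b ∈ twoPart N, ∀ g : H,
        mat g = blk (a : F) 0 0 b ((a * b)⁻¹ : Fˣ) → g ∈ M := by
  have hex : ∀ p : twoPart N × twoPart N, ∃ g : H,
      mat g = blk ((p.1 : Fˣ) : F) 0 0 ((p.2 : Fˣ) : F) (((p.1 : Fˣ) * p.2)⁻¹ : Fˣ) := fun p =>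
    hD.exists_diag p.1.2.1 p.2.2.1 (inv_mem (mul_mem p.1.2.1 p.2.2.1)) (mul_inv_cancel _)
  choose f hf using hex
  let φ : twoPart N × twoPart N →* H :=
    MonoidHom.mk' f fun p r => mat_eq (by
      rw [map_mul, hf, hf, hf, blk_mul, blk_inj]
      refine ⟨by simp, by simp, by simp, by simp, ?_⟩
      rw [← Units.val_mul]
      refine congrArg Units.val ?_
      simp only [Prod.fst_mul, Prod.snd_mul, Subgroup.coe_mul]
      rw [← mul_inv]
      refine congrArg (fun u : Fˣ => u⁻¹) ?_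
      ac_rfl)
  have hD2 : IsPGroup 2 φ.range := by
    rintro ⟨_, ⟨a, b⟩, rfl⟩
    obtain ⟨k, hk⟩ := isPGroup_twoPart a
    obtain ⟨l, hl⟩ := isPGroup_twoPart b
    refine ⟨k + l, Subtype.ext ?_⟩
    show φ (a, b) ^ 2 ^ (k + l) = 1
    rw [← map_pow, show (a, b) ^ 2 ^ (k + l) = 1 from ?_, map_one]
    refine Prod.ext ?_ ?_
    · show a ^ 2 ^ (k + l) = 1
      rw [pow_add, pow_mul, hk, one_pow]
    · show b ^ 2 ^ (k + l) = 1
      rw [pow_add, mul_comm, pow_mul, hl, one_pow]
  have hw2 : w * w = 1 := mat_eq (by rw [map_mul, map_one, hw, blk_mul, blk_eq_one]; simp)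
  have hwpow : IsPGroup 2 (Subgroup.zpowers w) := by
    rintro ⟨_, j, rfl⟩
    refine ⟨1, Subtype.ext ?_⟩
    show (w ^ j) ^ (2 ^ 1) = 1
    rw [pow_one, pow_two, ← (Commute.refl w).mul_zpow, hw2, one_zpow]
  have hconj : ∀ p : twoPart N × twoPart N, w * φ p * w⁻¹ = φ (p.2, p.1) := fun p => by
    rw [mul_inv_eq_iff_eq_mul]
    refine mat_eq ?_
    show mat (w * f p) = mat (f (p.2, p.1) * w)
    rw [map_mul, map_mul, hf, hf, hw, blk_mul, blk_mul, blk_inj]
    refine ⟨by simp, by simp, by simp, by simp, ?_⟩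
    simp [mul_comm]
  have hnorm : Subgroup.zpowers w ≤ Subgroup.normalizer (φ.range : Set H) := by
    rw [Subgroup.zpowers_le, Subgroup.mem_normalizer_iff]
    intro x
    constructor
    · rintro ⟨p, rfl⟩
      exact ⟨(p.2, p.1), (hconj p).symm⟩
    · rintro ⟨p, hp⟩
      refine ⟨(p.2, p.1), ?_⟩
      rw [← hconj p, hp]
      have hinv : w⁻¹ = w := inv_eq_of_mul_eq_one_left hw2
      rw [hinv]
      simp [mul_assoc, hw2]
      rw [← mul_assoc, hw2, one_mul]
  refine ⟨φ.range ⊔ Subgroup.zpowers w, hD2.to_sup_of_normal_left' hwpow hnorm,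
    Subgroup.mem_sup_right (Subgroup.mem_zpowers w), ?_, ?_⟩
  · intro g hg
    have : φ.range ⊔ Subgroup.zpowers w ≤ Subgroup.closure {g : H | IsBlk (mat g)} := by
      refine sup_le ?_ ?_
      · rintro _ ⟨p, rfl⟩
        refine Subgroup.subset_closure ?_
        show IsBlk (mat (f p))
        rw [hf]; exact isBlk_blk _ _ _ _ _
      · rw [Subgroup.zpowers_le]
        refine Subgroup.subset_closure ?_
        show IsBlk (mat w)
        rw [hw]; exact isBlk_blk _ _ _ _ _
    obtain ⟨z, hz⟩ := hD.exists_zz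
    have hc : Subgroup.closure {g : H | IsBlk (mat g)} ≤ Subgroup.centralizer {z} := by
      rw [Subgroup.closure_le]
      intro x hx
      rw [SetLike.mem_coe, Subgroup.mem_centralizer_singleton_iff]
      exact hD.commute_of_isBlk hz hx
    exact hD.isBlk_of_commute hz (Subgroup.mem_centralizer_singleton_iff.1 (hc (this hg)))
  · intro a ha b hb g hg
    refine Subgroup.mem_sup_left ⟨(⟨a, ha⟩, ⟨b, hb⟩), mat_eq ?_⟩
    rw [hg]; exact hf _

omit [Finite H] in
/-- A quaternion 2-group in the kernel. -/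
theorem exists_q8 {z : H} (hz : mat z = blk (-1) 0 0 (-1) 1) :
    ∃ (i j : H) (a b : F), a * a + b * b = -1 ∧ mat i = blk 0 (-1) 1 0 1 ∧
      mat j = blk a b b (-a) 1 ∧
      IsPGroup 2 (Subgroup.zpowers i ⊔ Subgroup.zpowers j : Subgroup H) := by
  obtain ⟨a, b, hab, j, hj⟩ := hD.exists_quat
  obtain ⟨w, hw⟩ := hD.exists_swap
  obtain ⟨d, hd⟩ := hD.exists_diag (a := 1) (one_mem N) hD.neg_one_mem hD.neg_one_mem (by simp)
  have hi : mat (w * d) = blk (0 : F) (-1) 1 0 1 := by
    rw [map_mul, hw, hd, blk_mul, blk_inj]; simp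
  refine ⟨w * d, j, a, b, hab, hi, hj, ?_⟩
  generalize w * d = i at hi ⊢
  have i4 : i * i * (i * i) = 1 := mat_eq (by
    simp only [map_mul, map_one, hi, blk_mul, blk_eq_one]; simp)
  have hji : j * i = i * i * i * j := mat_eq (by
    simp only [map_mul, hi, hj, blk_mul, blk_inj]
    refine ⟨?_, ?_, ?_, ?_, ?_⟩ <;> ring)
  have j4 : j * j * (j * j) = 1 := mat_eq (by
    simp only [map_mul, map_one, hj, blk_mul, blk_eq_one]
    refine ⟨?_, ?_, ?_, ?_, ?_⟩
    · linear_combination (a * a + b * b - 1) * hab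
    · ring
    · ring
    · linear_combination (a * a + b * b - 1) * hab
    · ring)
  have hpw : ∀ x : H, x * x * (x * x) = 1 → IsPGroup 2 (Subgroup.zpowers x) := by
    intro x hx
    rintro ⟨_, n, rfl⟩
    refine ⟨2, Subtype.ext ?_⟩
    show (x ^ n) ^ (2 ^ 2) = 1
    rw [← zpow_natCast, ← zpow_mul, mul_comm, zpow_mul, zpow_natCast,
      show (2 : ℕ) ^ 2 = 2 + 2 from rfl, pow_add, pow_two, hx, one_zpow]
  refine (hpw i i4).to_sup_of_normal_left' (hpw j j4) ?_
  rw [Subgroup.zpowers_le]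
  have hconj : j * i * j⁻¹ ∈ Subgroup.zpowers i := by
    rw [hji, mul_inv_cancel_right]
    exact mul_mem (mul_mem (Subgroup.mem_zpowers i) (Subgroup.mem_zpowers i)) (Subgroup.mem_zpowers i)
  have hfwd : ∀ x ∈ Subgroup.zpowers i, j * x * j⁻¹ ∈ Subgroup.zpowers i := by
    rintro _ ⟨n, rfl⟩
    rw [← conj_zpow]
    exact zpow_mem hconj n
  rw [Subgroup.mem_normalizer_iff]
  intro x
  refine ⟨hfwd x, fun hx => ?_⟩
  have := hfwd _ (hfwd _ (hfwd _ hx))
  have e : j * (j * (j * (j * x * j⁻¹) * j⁻¹) * j⁻¹) * j⁻¹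
      = (j * j * (j * j)) * x * (j * j * (j * j))⁻¹ := by group
  rw [e, j4, inv_one, one_mul, mul_one] at this
  exact this

end Data

end Cfsg.Agent.Fusion3
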