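import Cfsg.Agent.Lib.Fusion3.Linear
import Cfsg.Agent.Lib.Unitary.Group

/-
The special unitary group in dimension 3 satisfies `Data`.
Main results (namespace `Cfsg.Agent.Fusion3`): `isUnitary_blk`, `blk_entries`, `data_su`.
-/

set_option autoImplicit false

namespace Cfsg.Agent.Fusion3

open Matrix
open Cfsg.Agent.Unitary (IsUnitary)

variable {F : Type*} [Field F] [Fintype F] {q : ℕ}

/-- The norm-one units. -/
def normOne (F : Type*) [Field F] (q : ℕ) : Subgroup Fˣ := (powMonoidHom (q + 1) : Fˣ →* Fˣ).ker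

omit [Fintype F] in
theorem mem_normOne {u : Fˣ} : u ∈ normOne F q ↔ (u : F) * (u : F) ^ q = 1 := by
  rw [normOne, MonoidHom.mem_ker, powMonoidHom_apply, Units.ext_iff, Units.val_pow_eq_pow_val,
    pow_succ', Units.val_one]

variable (hF : Fintype.card F = q ^ 2)
include hF

/-- When a block matrix is unitary. -/
theorem isUnitary_blk {a b c d e : F} (h0 : a * a ^ q + c * c ^ q = 1) (h1 : b * b ^ q + d * d ^ q = 1)
    (h01 : a * b ^ q + c * d ^ q = 0) (he : e * e ^ q = 1) : IsUnitary q (blk a b c d e) := by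
  rw [Unitary.isUnitary_iff_orthonormal hF]
  have hz := Unitary.zero_pow_q (q := q) hF
  have h10 : b * a ^ q + d * c ^ q = 0 := by
    have := congrArg (fun t : F => t ^ q) h01
    simp only [Unitary.add_pow_q hF, mul_pow, Unitary.pow_q_pow_q hF, hz] at this
    linear_combination this
  refine ⟨fun i => ?_, fun i j hij => ?_⟩
  · fin_cases i <;>
      simp [Cfsg.hermForm, Fin.sum_univ_three, blk, hz, h0, h1, he]
  · fin_cases i <;> fin_cases j <;>
      simp [Cfsg.hermForm, Fin.sum_univ_three, blk, hz, h01, h10] at hij ⊢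

/-- The column conditions of a unitary block matrix. -/
theorem blk_entries {a b c d e : F} (h : IsUnitary q (blk a b c d e)) :
    a * a ^ q + c * c ^ q = 1 ∧ b * b ^ q + d * d ^ q = 1 ∧ a * b ^ q + c * d ^ q = 0 ∧
      e * e ^ q = 1 := by
  obtain ⟨h1, h2⟩ := (Unitary.isUnitary_iff_orthonormal hF _).1 h
  have hz := Unitary.zero_pow_q (q := q) hF
  refine ⟨?_, ?_, ?_, ?_⟩
  · have := h1 0; simpa [Cfsg.hermForm, Fin.sum_univ_three, blk, hz] using this
  · have := h1 1; simpa [Cfsg.hermForm, Fin.sum_univ_three, blk, hz] using this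
  · have := h2 (show (0 : Fin 3) ≠ 1 by decide)
    simpa [Cfsg.hermForm, Fin.sum_univ_three, blk, hz] using this
  · have := h1 2; simpa [Cfsg.hermForm, Fin.sum_univ_three, blk, hz] using this

theorem isUnitary_p12 : IsUnitary q (p12 : Matrix (Fin 3) (Fin 3) F) := by
  rw [Unitary.isUnitary_iff_orthonormal hF]
  have hz := Unitary.zero_pow_q (q := q) hF
  have hn : ((-1 : F)) ^ q = -1 := by rw [Unitary.neg_pow_q hF, one_pow]
  refine ⟨fun i => ?_, fun i j hij => ?_⟩
  · fin_cases i <;> simp [Cfsg.hermForm, Fin.sum_univ_three, p12, hz, hn]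
  · fin_cases i <;> fin_cases j <;>
      simp [Cfsg.hermForm, Fin.sum_univ_three, p12, hz, hn] at hij ⊢

variable (hodd : q % 2 = 1)
include hodd

theorem odd_card : Fintype.card F % 2 = 1 := by rw [hF, sq, Nat.mul_mod, hodd]

theorem exists_fixed_sq_add_sq {c : F} (hc : c ^ q = c) :
    ∃ u v : F, u ^ q = u ∧ v ^ q = v ∧ u * u + v * v = c := by
  obtain ⟨u, v, h⟩ := exists_sq_add_sq (K := Unitary.fixedField hF)
    (by rw [Unitary.card_fixedField hF]; exact hodd) ⟨c, hc⟩
  exact ⟨u, v, u.2, v.2, congrArg Subtype.val h⟩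

/-- A unit vector `(p, r)` orthogonal to its image under a block element of square `-1`. -/
theorem exists_frame {a b c d : F} (hu : IsUnitary q (blk a b c d 1)) (h1 : a * a + b * c = -1)
    (h2 : b * (a + d) = 0) (h3 : c * (a + d) = 0) (hdet : a * d - b * c = 1) :
    ∃ p r : F, p * p ^ q + r * r ^ q = 1 ∧
      (a * p + b * r) * p ^ q + (c * p + d * r) * r ^ q = 0 := by
  have two : (2 : F) ≠ 0 := two_ne_zero_of_odd (odd_card hF hodd)
  obtain ⟨u0, u1, u01, -⟩ := blk_entries hF hu
  have had : a + d = 0 := by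
    by_contra hne
    have hb := (mul_eq_zero.1 h2).resolve_right hne
    have hc := (mul_eq_zero.1 h3).resolve_right hne
    subst hb hc
    exact hne (mul_left_cancel₀ (show a ≠ 0 from fun h0 => by simp [h0] at hdet)
      (by linear_combination h1 + hdet))
  have hd : d = -a := by linear_combination had
  subst hd
  by_cases ha : a = 0
  · subst ha
    refine ⟨1, 0, ?_, ?_⟩ <;> simp [Unitary.zero_pow_q hF]
  -- the unitary relations: c = -b^q, a^q = -a
  have hc' : c = -(b ^ q) := by
    have e : a * a * b ^ q + c * (a * (-a) ^ q) = 0 := by linear_combination a * u01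
    rw [Unitary.neg_pow_q hF] at e u1
    -- a * a^q = 1 - c c^q
    have e2 : a * a * b ^ q - c + c * c * c ^ q = 0 := by linear_combination e + c * u0
    have hbc : a * a = -1 - b * c := by linear_combination h1
    have hN : b * b ^ q = c * c ^ q := by linear_combination u1 - u0
    linear_combination -e2 + b ^ q * hbc + (-c) * hN
  subst hc'
  have hz := Unitary.zero_pow_q (q := q) hF
  have haq : a ^ q = -a := by
    rw [Unitary.neg_pow_q hF, Unitary.pow_q_pow_q hF] at u0
    refine mul_left_cancel₀ ha ?_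
    linear_combination u0 + h1
  obtain ⟨u, s, hu', hs, hus⟩ := exists_fixed_sq_add_sq hF hodd (c := b * b ^ q)
    (by rw [mul_pow, Unitary.pow_q_pow_q hF, mul_comm])
  have hhalf : ((2 : F)⁻¹) ^ q = (2 : F)⁻¹ := by
    rw [inv_pow, show (2 : F) = 1 + 1 by norm_num, Unitary.add_pow_q hF, one_pow]
  by_cases hb : b = 0
  · subst hb
    obtain ⟨x, hx⟩ := Unitary.exists_norm_eq hF hhalf
    rw [pow_succ'] at hx
    refine ⟨x, x, ?_, ?_⟩
    · rw [hx, ← two_mul, mul_inv_cancel₀ two]
    · simp [hz]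
  -- b ≠ 0
  set R := (u - a * s) * (2 : F)⁻¹ with hR
  have hRq : R ^ q = (u + a * s) * (2 : F)⁻¹ := by
    rw [hR, mul_pow, hhalf, Unitary.sub_pow_q hF, mul_pow, haq, hu', hs]; ring
  have hone : 1 + s ≠ 0 := by
    intro h0
    have hs1 : s = -1 := by linear_combination h0
    subst hs1
    rw [Unitary.neg_pow_q hF, Unitary.pow_q_pow_q hF] at u0
    have : (u - a) * (u + a) = 0 := by linear_combination hus - h1
    rcases mul_eq_zero.1 this with h | h
    · have hua : u = a := by linear_combination h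
      subst hua
      exact ha (mul_left_cancel₀ two (by linear_combination hu'.symm.trans haq))
    · have hua : u = -a := by linear_combination h
      subst hua
      rw [Unitary.neg_pow_q hF] at hu'
      exact ha (mul_left_cancel₀ two (by linear_combination -(haq.symm.trans (neg_injective hu'))))
  obtain ⟨x, hx⟩ := Unitary.exists_norm_eq hF (c := (1 + s) * (2 : F)⁻¹)
    (by rw [mul_pow, hhalf, Unitary.add_pow_q hF, one_pow, hs])
  rw [pow_succ'] at hx
  have hx0 : x ≠ 0 := by
    intro h
    rw [h, zero_mul] at hx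
    exact hone ((mul_eq_zero.1 hx.symm).resolve_right (inv_ne_zero two))
  have hxq : x ^ q ≠ 0 := fun h => hx0 ((Unitary.pow_q_eq_zero hF).1 h)
  have hbq : b ^ q ≠ 0 := fun h => hb ((Unitary.pow_q_eq_zero hF).1 h)
  obtain ⟨w, hw⟩ : ∃ w, b * (w * x ^ q) = R := ⟨R / b / x ^ q, by field_simp⟩
  have hwq : b ^ q * (w ^ q * x) = R ^ q := by
    rw [← hw, mul_pow, mul_pow, Unitary.pow_q_pow_q hF]
  have hwn : w * w ^ q = (1 - s) * (2 : F)⁻¹ := by
    refine mul_left_cancel₀ (mul_ne_zero (mul_ne_zero hb hbq) (mul_ne_zero hx0 hxq)) ?_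
    have e : b * b ^ q * (x * x ^ q) * (w * w ^ q) = R * R ^ q := by
      rw [← hwq, ← hw]; ring
    have hRR : R * R ^ q = (u * u - a * a * (s * s)) * ((2 : F)⁻¹ * (2 : F)⁻¹) := by
      rw [hRq, hR]; ring
    linear_combination e + hRR - (b * b ^ q) * ((1 - s) * (2 : F)⁻¹) * hx
      + (2 : F)⁻¹ * (2 : F)⁻¹ * (hus - s * s * h1)
  refine ⟨x, w, ?_, ?_⟩
  · have hh : (2 : F) * 2⁻¹ = 1 := mul_inv_cancel₀ two
    linear_combination hx + hwn + hh
  · have hh : (2 : F) * 2⁻¹ = 1 := mul_inv_cancel₀ two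
    linear_combination a * hx - a * hwn + hw - hwq + hR - hRq

/-- `SU₃` in odd characteristic satisfies `Data`. -/
theorem data_su : Data (Cfsg.SU 3 F q) (normOne F q) := by
  have two : (2 : F) ≠ 0 := two_ne_zero_of_odd (odd_card hF hodd)
  have hz := Unitary.zero_pow_q (q := q) hF
  have hn : ((-1 : F)) ^ q = -1 := by rw [Unitary.neg_pow_q hF, one_pow]
  refine
    { two_ne := two, neg_one_mem := ?_, diag_mem := ?_, entry_mem := ?_, swap_mem := ?_,
      p12_mem := ?_, quat := ?_, diagonalizable := ?_, sq_conj := ?_ }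
  · rw [mem_normOne]; simp [hn]
  · intro g a b c ha hb hc hg
    rw [mem_normOne] at ha hb hc
    show IsUnitary q (g : Matrix (Fin 3) (Fin 3) F)
    rw [hg]
    exact isUnitary_blk hF (by simp [hz, ha]) (by simp [hz, hb]) (by simp [hz]) hc
  · intro g hg i hi
    obtain ⟨h1, -⟩ := (Unitary.isUnitary_iff_orthonormal hF _).1 (hg : IsUnitary q _)
    obtain ⟨G, hG⟩ : ∃ G : Matrix (Fin 3) (Fin 3) F, G = (g : Matrix (Fin 3) (Fin 3) F) := ⟨_, rfl⟩
    have h : Cfsg.hermForm 3 F q (fun k => G k i) (fun k => G k i) = 1 := by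
      rw [hG]; exact h1 i
    rw [← hG] at hi ⊢
    have e : G i i * (G i i) ^ q = 1 := by
      rw [← h, Cfsg.hermForm, Finset.sum_eq_single i (fun k _ hk => by rw [hi k hk, zero_mul])
        (fun h => absurd (Finset.mem_univ i) h)]
    refine ⟨Units.mk0 _ fun h0 => ?_, ?_, rfl⟩
    · rw [h0, zero_mul] at e; exact zero_ne_one e
    · rw [mem_normOne]; exact e
  · intro g hg
    show IsUnitary q (g : Matrix (Fin 3) (Fin 3) F)
    rw [hg]
    exact isUnitary_blk hF (by simp [hz]) (by simp [hz]) (by simp [hz]) (by simp [hn])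
  · intro g hg
    show IsUnitary q (g : Matrix (Fin 3) (Fin 3) F)
    rw [hg]
    exact isUnitary_p12 hF
  · obtain ⟨δ, hδ0, hδ⟩ := Unitary.exists_skew hF
    obtain ⟨u, v, hu, hv, huv⟩ := exists_fixed_sq_add_sq hF hodd (c := -(δ * δ)⁻¹)
      (by rw [Unitary.neg_pow_q hF, inv_pow, mul_pow, hδ, neg_mul_neg])
    refine ⟨δ * u, δ * v, ?_, fun g hg => ?_⟩
    · calc δ * u * (δ * u) + δ * v * (δ * v) = δ * δ * (u * u + v * v) := by ring
        _ = -1 := by rw [huv]; field_simp
    show IsUnitary q (g : Matrix (Fin 3) (Fin 3) F)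
    rw [hg]
    have e : -(δ * δ) * (u * u + v * v) = 1 := by rw [huv]; field_simp
    refine isUnitary_blk hF ?_ ?_ ?_ (by simp)
    · rw [mul_pow, mul_pow, hδ, hu, hv]; linear_combination e
    · rw [Unitary.neg_pow_q hF, mul_pow, mul_pow, hδ, hu, hv]; linear_combination e
    · rw [Unitary.neg_pow_q hF, mul_pow, mul_pow, hδ, hu, hv]; ring
  · intro x hx hxx
    set M := (x : Matrix (Fin 3) (Fin 3) F) with hM
    have hM2 : M * M = 1 := congrArg Subtype.val hxx
    have hMu : IsUnitary q M := hx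
    have hH := Unitary.hermForm_isHerm hF 3
    have horth : ∀ v ∈ plusSpace M, ∀ w ∈ minusSpace M, Cfsg.hermForm 3 F q v w = 0 := by
      intro v hv w hw
      have := hMu v w
      rw [mem_plusSpace.1 hv, mem_minusSpace.1 hw, hH.neg_right hF] at this
      exact mul_left_cancel₀ two (by linear_combination -this)
    have hc := isCompl_spaces two hM2
    have hdec : ∀ v, ∃ p ∈ plusSpace M, ∃ r ∈ minusSpace M, p + r = v := fun v =>
      Submodule.mem_sup.1 (hc.sup_eq_top ▸ Submodule.mem_top)
    obtain ⟨bp, hbp, hsp⟩ := Unitary.subspace_orthonormalBasis hF (plusSpace M) (fun v hv h0 =>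
      Unitary.hermForm_nondeg hF 3 v fun y => by
        obtain ⟨p, hp, r, hr, rfl⟩ := hdec y
        rw [hH.add_right hF, h0 p hp, horth v hv r hr, add_zero])
    obtain ⟨bm, hbm, hsm⟩ := Unitary.subspace_orthonormalBasis hF (minusSpace M) (fun v hv h0 =>
      Unitary.hermForm_nondeg hF 3 v fun y => by
        obtain ⟨p, hp, r, hr, rfl⟩ := hdec y
        rw [hH.add_right hF, h0 r hr, (hH.eq_zero_symm hF).1 (horth p hp v hv), zero_add])
    have hcard : Module.finrank F (plusSpace M) + Module.finrank F (minusSpace M) = 3 := by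
      rw [Submodule.finrank_add_eq_of_isCompl hc, Module.finrank_fin_fun]
    let e : Fin 3 ≃ Fin (Module.finrank F (plusSpace M)) ⊕ Fin (Module.finrank F (minusSpace M)) :=
      (finCongr hcard.symm).trans finSumFinEquiv.symm
    let w : Fin (Module.finrank F (plusSpace M)) ⊕ Fin (Module.finrank F (minusSpace M)) →
        (Fin 3 → F) := Sum.elim bp bm
    have hbpm : ∀ i, bp i ∈ plusSpace M := fun i => by
      have := Submodule.subset_span (R := F) (Set.mem_range_self (f := bp) i)
      rwa [hsp] at this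
    have hbmm : ∀ i, bm i ∈ minusSpace M := fun i => by
      have := Submodule.subset_span (R := F) (Set.mem_range_self (f := bm) i)
      rwa [hsm] at this
    have hw : Unitary.Orthonormal (Cfsg.hermForm 3 F q) w := by
      refine ⟨?_, ?_⟩
      · rintro (i | i)
        exacts [hbp.1 i, hbm.1 i]
      · rintro (i | i) (j | j) hij
        · exact hbp.2 fun h => hij (congrArg Sum.inl h)
        · exact horth _ (hbpm i) _ (hbmm j)
        · exact (hH.eq_zero_symm hF).1 (horth _ (hbpm j) _ (hbmm i))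
        · exact hbm.2 fun h => hij (congrArg Sum.inr h)
    have hv := hw.comp e e.injective
    have hU : IsUnitary q (colMat (w ∘ e)) := by
      rw [Unitary.isUnitary_iff_orthonormal hF]
      exact hv
    let ε : Fin 3 → F := fun i => Sum.elim (fun _ => 1) (fun _ => -1) (e i)
    have heig : ∀ i, M *ᵥ (w ∘ e) i = ε i • (w ∘ e) i := fun i => by
      simp only [ε, Function.comp_apply, w]
      rcases e i with s | s
      · simpa using mem_plusSpace.1 (hbpm s)
      · simpa using mem_minusSpace.1 (hbmm s)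
    have hD : (colMat (w ∘ e)).det ^ (q + 1) = 1 := hU.det_norm hF
    have hD0 : (colMat (w ∘ e)).det ≠ 0 := fun h => by
      rw [h, zero_pow (Nat.succ_ne_zero q)] at hD; exact zero_ne_one hD
    set D := (colMat (w ∘ e)).det
    have hd : (colMat (w ∘ e) * blk D⁻¹ 0 0 1 1).det = 1 := by
      rw [Matrix.det_mul, det_blk]
      show D * _ = 1
      field_simp
      ring
    refine ⟨⟨_, hd⟩, hU.mul (isUnitary_blk hF ?_ (by simp [hz]) (by simp [hz]) (by simp)),
      ε 0, ε 1, ε 2, ?_⟩
    · rw [hz, mul_zero, add_zero, ← pow_succ', inv_pow, hD, inv_one]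
    · show M * (colMat (w ∘ e) * blk D⁻¹ 0 0 1 1) = colMat (w ∘ e) * blk D⁻¹ 0 0 1 1 * _
      rw [← mul_assoc, mul_colMat heig, mul_assoc, mul_assoc, blk_mul, blk_mul]
      congr 2 <;> ring
  · intro y hy hblk h22 hsq
    obtain ⟨a, b, c, d, he, e1, e2, e3, e4, hdet⟩ := sq_relations hblk h22 hsq
    have hu : IsUnitary q (blk a b c d 1) := he ▸ (hy : IsUnitary q _)
    obtain ⟨p, r, hn1, hn0⟩ := exists_frame hF hodd hu e1 e2 e3 hdet
    obtain ⟨u0, u1, u01, -⟩ := blk_entries hF hu
    set p' := a * p + b * r with hp'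
    set r' := c * p + d * r with hr'
    have h1' : p' * p' ^ q + r' * r' ^ q = 1 := by
      have h10 : b * a ^ q + d * c ^ q = 0 := by
        have := congrArg (fun t : F => t ^ q) u01
        simp only [Unitary.add_pow_q hF, mul_pow, Unitary.pow_q_pow_q hF, hz] at this
        linear_combination this
      rw [hp', hr', Unitary.add_pow_q hF, Unitary.add_pow_q hF, mul_pow, mul_pow, mul_pow, mul_pow]
      linear_combination p * p ^ q * u0 + r * r ^ q * u1 + p * r ^ q * u01 + r * p ^ q * h10 + hn1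
    have h01' : p * p' ^ q + r * r' ^ q = 0 := by
      have := congrArg (fun t : F => t ^ q) hn0
      simp only [Unitary.add_pow_q hF, mul_pow, Unitary.pow_q_pow_q hF, hz] at this
      linear_combination this
    have hU : IsUnitary q (blk p p' r r' 1) := isUnitary_blk hF hn1 h1' h01' (by simp)
    have hD := hU.det_norm hF
    rw [det_blk, mul_one] at hD
    have hD0 : p * r' - p' * r ≠ 0 := fun h => by
      rw [h, zero_pow (Nat.succ_ne_zero q)] at hD; exact zero_ne_one hD
    refine ⟨⟨blk p p' r r' (p * r' - p' * r)⁻¹, ?_⟩,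
      isUnitary_blk hF hn1 h1' h01' ?_, ?_⟩
    · rw [det_blk]; exact mul_inv_cancel₀ hD0
    · rw [← pow_succ', inv_pow, hD, inv_one]
    · rw [he]; exact conj_rot_of_vec e1 e2 e3 e4

end Cfsg.Agent.Fusion3
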